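import Groth.Agent.CotTLib.Jacobi
import Groth.Agent.WildQuotLib.SOP

/-! Complete intersections in a regular local ring and `T²`. -/

set_option autoImplicit false

noncomputable section

open TensorProduct RingTheory.Sequence IsLocalRing

namespace Groth.Agent.CotTLib

open CotT

universe u

theorem exists_sop_quot {A : Type u} [CommRing A] [IsLocalRing A] [IsNoetherianRing A] (I : Ideal A) (hI : I ≠ ⊤)
    {e : ℕ} (he : ringKrullDim (A ⧸ I) = e) :
    ∃ ys : List A, ys.length = e ∧ (∀ y ∈ ys, y ∈ maximalIdeal A) ∧ maximalIdeal A ≤ (I ⊔ Ideal.ofList ys).radical := by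
  classical
  haveI := RegLocal.isLocalRing_quot hI
  obtain ⟨s, hs, hcard⟩ := (maximalIdeal (A ⧸ I)).exists_finset_card_eq_height_of_isNoetherianRing
  have hse : s.card = e := by
    have h1 : ((maximalIdeal (A ⧸ I)).height : WithBot ℕ∞) = e := by rw [maximalIdeal_height_eq_ringKrullDim, he]
    rw [← hcard] at h1
    exact_mod_cast h1
  choose f hf using fun x : A ⧸ I => Ideal.Quotient.mk_surjective x
  refine ⟨s.toList.map f, by simp [hse], ?_, fun x hx => ?_⟩
  · intro y hy
    obtain ⟨x, hx, rfl⟩ := List.mem_map.mp hy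
    have h1 : x ∈ maximalIdeal (A ⧸ I) := hs.1.2 (Ideal.subset_span (Finset.mem_toList.mp hx))
    rw [← hf x, RegLocal.maximalIdeal_quot hI, Ideal.mem_quotient_iff_mem_sup,
      sup_eq_left.mpr (le_maximalIdeal hI)] at h1
    exact h1
  · have hrad : maximalIdeal (A ⧸ I) ≤ (Ideal.span (s : Set (A ⧸ I))).radical := by
      rw [Ideal.radical_eq_sInf]
      refine le_sInf fun q ⟨hq, hqp⟩ => ?_
      exact hs.2 ⟨hqp, hq⟩ (le_maximalIdeal hqp.ne_top)
    have h2 : Ideal.Quotient.mk I x ∈ (Ideal.span (s : Set (A ⧸ I))).radical := hrad (by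
      rw [RegLocal.maximalIdeal_quot hI]; exact Ideal.mem_map_of_mem _ hx)
    obtain ⟨n, hn⟩ := h2
    refine ⟨n, ?_⟩
    rw [← map_pow] at hn
    have h3 : Ideal.span (s : Set (A ⧸ I)) = (Ideal.ofList (s.toList.map f)).map (Ideal.Quotient.mk I) := by
      rw [Ideal.ofList, Ideal.map_span]
      congr 1
      ext z
      constructor
      · intro hz; exact ⟨f z, List.mem_map.mpr ⟨z, Finset.mem_toList.mpr hz, rfl⟩, hf z⟩
      · rintro ⟨y, hy, rfl⟩
        obtain ⟨x', hx', rfl⟩ := List.mem_map.mp hy
        rw [hf x']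
        exact Finset.mem_toList.mp hx'
    rwa [h3, Ideal.mem_quotient_iff_mem_sup, sup_comm] at hn

theorem isWeaklyRegular_of_length {A : Type u} [CommRing A] [IsRegularLocalRing A] (rs : List A)
    (hne : Ideal.ofList rs ≠ ⊤)
    (hlen : (rs.length : WithBot ℕ∞) + ringKrullDim (A ⧸ Ideal.ofList rs) = ringKrullDim A) :
    IsWeaklyRegular A rs := by
  haveI := RegLocal.isLocalRing_quot hne
  obtain ⟨e, he⟩ := RegLocal.exists_nat_ringKrullDim (A ⧸ Ideal.ofList rs)
  obtain ⟨y, hy⟩ := RegLocal.exists_generators (R := A)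
  have hd : ringKrullDim A = (maximalIdeal A).spanFinrank :=
    ((isRegularLocalRing_iff A).1 inferInstance).symm
  have hreg := (RegLocal.isRegular_of_generators A hd y hy).1
  obtain ⟨ys, hys, hysm, hrad⟩ := exists_sop_quot (Ideal.ofList rs) hne he
  have hn : (maximalIdeal A).spanFinrank = rs.length + e := by
    rw [he, hd] at hlen
    exact_mod_cast hlen.symm
  let q : (A ⧸ (⊥ : Ideal A)) ≃ₗ[A] A := Submodule.quotEquivOfEqBot ⊥ rfl
  have hle : Ideal.ofList (rs ++ ys) ≤ maximalIdeal A := by
    rw [Ideal.ofList_append]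
    refine sup_le (le_maximalIdeal hne) (Ideal.span_le.mpr fun z hz => hysm z hz)
  have hne' : (⊥ : Ideal A) ⊔ Ideal.ofList (rs ++ ys) ≠ ⊤ := by
    rw [bot_sup_eq]
    exact fun h => (maximalIdeal.isMaximal A).ne_top (top_le_iff.mp (h ▸ hle))
  have h := WildQuotLib.isWeaklyRegular_of_radical (rs ++ ys) (⊥ : Ideal A) hne'
    ⟨List.ofFn y, by simp [hn, hys], fun r hr => by
      obtain ⟨i, rfl⟩ := List.mem_ofFn.1 hr
      exact hy ▸ Ideal.subset_span ⟨i, rfl⟩, (LinearEquiv.isWeaklyRegular_congr q _).2 hreg⟩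
    (by rwa [bot_sup_eq, Ideal.ofList_append])
  rw [LinearEquiv.isWeaklyRegular_congr q] at h
  exact ((isWeaklyRegular_append_iff A rs ys).1 h).1

theorem regular_of_subsingleton_T2 {A B : Type u} [CommRing A] [IsLocalRing A] [IsNoetherianRing A] [CommRing B]
    [Algebra A B] [IsLocalRing B] (hs : Function.Surjective (algebraMap A B))
    (h : ∀ (M : Type u) [AddCommGroup M] [Module B M], Subsingleton (T2 (canon A B) M)) :
    ∃ rs : List A, IsWeaklyRegular A rs ∧ Ideal.ofList rs = RingHom.ker (algebraMap A B) := by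
  classical
  set I := RingHom.ker (algebraMap A B) with hIdef
  obtain ⟨s, hscard, hsspan⟩ := Submodule.FG.exists_span_finset_card_eq_spanFinrank I.fg_of_isNoetherianRing
  let a : Fin s.card → A := fun i => s.equivFin.symm i
  have hrange : Set.range a = (s : Set A) := by
    ext z
    exact ⟨fun ⟨i, hi⟩ => hi ▸ (s.equivFin.symm i).2, fun hz => ⟨s.equivFin ⟨z, hz⟩, by simp [a]⟩⟩
  have hIa : I = Ideal.span (Set.range a) := by rw [hrange]; exact hsspan.symm
  have ham : ∀ i, a i ∈ maximalIdeal A := fun i => by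
    refine le_maximalIdeal (fun h => ?_) (show a i ∈ I from hIa ▸ Ideal.subset_span ⟨i, rfl⟩)
    exact one_ne_zero (α := B) (by rw [← map_one (algebraMap A B)]; exact (Ideal.eq_top_iff_one _).mp h)
  -- relations have coefficients in the maximal ideal
  have hmin : ∀ c : Fin s.card → A, ∑ j, c j * a j = 0 → ∀ i, c i ∈ maximalIdeal A := by
    intro c hc i
    by_contra hi
    have hu : IsUnit (c i) := by rwa [mem_maximalIdeal, mem_nonunits_iff, not_not] at hi
    let t : Finset A := (Finset.univ.erase i).image a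
    have h1 : I ≤ Submodule.span A (t : Set A) := by
      rw [hIa]
      refine Ideal.span_le.mpr ?_
      rintro _ ⟨j, rfl⟩
      have hmem : ∀ j, j ≠ i → a j ∈ Submodule.span A (t : Set A) := fun j hj =>
        Submodule.subset_span (Finset.mem_coe.mpr (Finset.mem_image.mpr ⟨j, Finset.mem_erase.mpr ⟨hj, Finset.mem_univ _⟩, rfl⟩))
      by_cases hj : j = i
      · subst hj
        rw [← Finset.add_sum_erase _ _ (Finset.mem_univ j), add_eq_zero_iff_eq_neg] at hc
        refine (Ideal.unit_mul_mem_iff_mem (Ideal.span (t : Set A)) hu).mp ?_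
        rw [hc]
        exact neg_mem (sum_mem fun k hk => Ideal.mul_mem_left _ _ (hmem k (Finset.ne_of_mem_erase hk)))
      · exact hmem j hj
    have h2 : I = Submodule.span A (t : Set A) := le_antisymm h1 (by
      rw [hIa]
      refine Submodule.span_mono ?_
      intro z hz
      obtain ⟨j, -, rfl⟩ := Finset.mem_image.mp hz
      exact ⟨j, rfl⟩)
    have h3 : Submodule.spanFinrank I ≤ t.card := by
      rw [h2]
      exact (Submodule.spanFinrank_span_le_ncard_of_finite t.finite_toSet).trans_eq (Set.ncard_coe_finset t)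
    have h4 : t.card < s.card := lt_of_le_of_lt Finset.card_image_le (by
      rw [Finset.card_erase_of_mem (Finset.mem_univ i), Finset.card_univ, Fintype.card_fin]
      have := i.isLt; omega)
    rw [← hscard] at h3
    omega
  obtain ⟨P, hP⟩ := exists_quotPres hs a hIa
  haveI : IsNoetherianRing P.toExtension.Ring := inferInstanceAs (IsNoetherianRing (MvPolynomial PEmpty.{1} A))
  haveI : Module.Finite P.toExtension.Ring (relKer P) := Module.Finite.of_fg (IsNoetherian.noetherian _)
  haveI : Subsingleton (T2 P (L2 P)) := by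
    haveI := h (L2 P)
    exact subsingleton_T2_of_presentation (L2 P) (canon A B) P
  obtain ⟨l, hl⟩ := (Submodule.Quotient.mk_eq_zero _).mp
    (Subsingleton.elim (Submodule.Quotient.mk (LinearMap.id : L2 P →ₗ[B] L2 P) : T2 P (L2 P)) 0)
  have hL : (⊤ : Submodule B (L2 P)) = ⊥ := by
    refine Submodule.eq_bot_of_le_smul_of_le_jacobson_bot (maximalIdeal B) ⊤ Module.Finite.fg_top ?_
      (maximalIdeal_le_jacobson _)
    intro z _
    rw [← show l (d2 P z) = z from LinearMap.congr_fun hl z]
    obtain ⟨q, rfl⟩ := exists_mk_eq P z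
    rw [d2_mk_tmul]
    choose c hc using fun i => MvPolynomial.C_surjective PEmpty.{1} ((q : relMod P) i)
    have hcz : ∑ j, c j * a j = 0 := by
      have h1 : jmap P (q : relMod P) = 0 := q.2
      rw [jmap, Finsupp.linearCombination_apply, Finsupp.sum_fintype (h := fun i => by simp)] at h1
      refine MvPolynomial.C_injective PEmpty.{1} A ?_
      rw [map_zero, map_sum]
      refine Eq.trans ?_ h1
      refine Finset.sum_congr rfl fun j _ => ?_
      rw [map_mul, hc, hP]
      rfl
    have hexp : (1 : B) ⊗ₜ[P.toExtension.Ring] (q : relMod P) =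
        ∑ i, algebraMap P.toExtension.Ring B ((q : relMod P) i) • L1basis P i := by
      conv_lhs => rw [← Finsupp.univ_sum_single (q : relMod P), tmul_sum]
      refine Finset.sum_congr rfl fun i _ => ?_
      rw [L1basis_apply, smul_tmul', smul_eq_mul, mul_one, ← mul_one (algebraMap _ B _), ← Algebra.smul_def, smul_tmul,
        Finsupp.smul_single, smul_eq_mul, mul_one]
    rw [hexp, map_sum]
    refine sum_mem fun i _ => ?_
    rw [map_smul]
    refine Submodule.smul_mem_smul ?_ Submodule.mem_top
    rw [← hc i, algebraMap_toExtension, MvPolynomial.aeval_C]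
    refine fun hu => hmin c hcz i ?_
    obtain ⟨b, hb⟩ := hu.exists_right_inv
    obtain ⟨b, rfl⟩ := hs b
    have h1 : c i * b - 1 ∈ maximalIdeal A := le_maximalIdeal
      (fun htop => one_ne_zero (α := B) (by rw [← map_one (algebraMap A B)]; exact (Ideal.eq_top_iff_one _).mp htop))
      (show c i * b - 1 ∈ I by rw [hIdef, RingHom.mem_ker, map_sub, map_mul, hb, map_one, sub_self])
    exact isUnit_of_mul_isUnit_left (y := b) (by
      by_contra hnu
      exact (maximalIdeal.isMaximal A).ne_top ((Ideal.eq_top_iff_one _).mpr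
        (by simpa using sub_mem ((mem_maximalIdeal _).mpr hnu) h1)))
  have hker : relKer P ≤ trivRel P := fun x hx => (relClass_eq_zero_iff P ⟨x, hx⟩).mp
    ((Submodule.eq_bot_iff _).mp hL _ Submodule.mem_top)
  let ε : P.toExtension.Ring ≃+* A := MvPolynomial.isEmptyRingEquiv A PEmpty.{1}
  have hεa : ε ∘ rel P = a := funext fun i => by
    rw [hP]
    show MvPolynomial.isEmptyRingEquiv A PEmpty.{1} (MvPolynomial.C (a i)) = a i
    exact (MvPolynomial.isEmptyRingEquiv A PEmpty.{1}).symm.injective ((RingEquiv.symm_apply_apply _ _).trans rfl)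
  have hreg : RegFam a := by
    haveI : IsLocalRing P.toExtension.Ring := ε.symm.isLocalRing
    have h1 : RegFam (rel P) := regFam_of_ker_le_trivR (rel P) (fun i => by
      rw [mem_maximalIdeal, mem_nonunits_iff]
      intro hu
      have h2 : IsUnit (a i) := congrFun hεa i ▸ hu.map ε
      exact (mem_maximalIdeal _).mp (ham i) h2) hker
    rw [← hεa]
    exact h1.map_ringEquiv ε
  refine ⟨List.ofFn a, (isWeaklyRegular_iff A _).mpr fun i hi => ?_, ?_⟩
  · have hi' : i < s.card := by simpa using hi
    have hset : Ideal.ofList ((List.ofFn a).take i) = Ideal.span (a '' {j | j < ⟨i, hi'⟩}) := by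
      rw [Ideal.ofList]
      congr 1
      ext z
      simp only [Set.mem_ofPred_eq, List.mem_take_iff_getElem, List.getElem_ofFn, Set.mem_image]
      constructor
      · rintro ⟨j, hj, rfl⟩
        exact ⟨⟨j, by omega⟩, Fin.lt_def.mpr (show j < i by omega), rfl⟩
      · rintro ⟨j, hj, rfl⟩
        exact ⟨j, by have := Fin.lt_def.mp hj; simp at this ⊢; omega, rfl⟩
    rw [isSMulRegular_iff_right_eq_zero_of_smul]
    intro x hx
    obtain ⟨x, rfl⟩ := Submodule.Quotient.mk_surjective _ x
    rw [← Submodule.Quotient.mk_smul, Submodule.Quotient.mk_eq_zero, smul_eq_mul, Ideal.mul_top, hset] at hx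
    rw [Submodule.Quotient.mk_eq_zero, smul_eq_mul, Ideal.mul_top, hset]
    exact hreg _ x (by simpa [List.getElem_ofFn] using hx)
  · rw [hIa, Ideal.ofList]
    congr 1
    ext z
    simp

theorem subsingleton_T2_of_isWeaklyRegular {A B : Type u} [CommRing A] [CommRing B] [Algebra A B]
    (hs : Function.Surjective (algebraMap A B)) (rs : List A) (hreg : IsWeaklyRegular A rs)
    (hI : RingHom.ker (algebraMap A B) = Ideal.ofList rs) (M : Type u) [AddCommGroup M] [Module B M] :
    Subsingleton (T2 (canon A B) M) := by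
  have hI' : RingHom.ker (algebraMap A B) = Ideal.span (Set.range fun i : Fin rs.length => rs[i]) := by
    rw [hI, Ideal.ofList]
    congr 1
    ext x
    simp only [Set.mem_ofPred_eq, Set.mem_range, List.mem_iff_getElem]
    exact ⟨fun ⟨j, hj, h⟩ => ⟨⟨j, hj⟩, h⟩, fun ⟨j, h⟩ => ⟨j, j.2, h⟩⟩
  obtain ⟨P, hP⟩ := exists_quotPres hs _ hI'
  haveI := subsingleton_T2 P (ker_le_trivR (rel P) (regFam_rel hs (regFam_of_isWeaklyRegular hreg) P hP)) M
  exact subsingleton_T2_of_presentation M P _

end Groth.Agent.CotTLib
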