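import Groth.Agent.CotTLib.Jacobi
import Groth.Agent.RegLocal.Basic

/-! `T¹` and formal smoothness; vanishing of `T²` from trivial relations modulo `I`. -/

set_option autoImplicit false

noncomputable section

open TensorProduct

namespace Groth.Agent.CotTLib

open CotT

universe u v w t m

variable {A : Type u} {B : Type v} [CommRing A] [CommRing B] [Algebra A B]
variable {ι : Type w} {σ : Type t}

theorem subsingleton_T1_of_formallySmooth (P : Algebra.Presentation A B ι σ) [Algebra.FormallySmooth A B]
    (M : Type m) [AddCommGroup M] [Module B M] : Subsingleton (T1 P M) := by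
  haveI : Algebra.FormallySmooth A P.toExtension.Ring := inferInstanceAs (Algebra.FormallySmooth A (MvPolynomial ι A))
  obtain ⟨l, hl⟩ := P.toExtension.formallySmooth_iff_split_injection.mp inferInstance
  refine subsingleton_of_forall_eq 0 fun x => ?_
  obtain ⟨φ, rfl⟩ := homToT1_surjective P M x
  rw [← LinearMap.mem_ker, ker_homToT1]
  exact ⟨φ ∘ₗ l, by rw [LinearMap.lcomp_apply', LinearMap.comp_assoc, hl, LinearMap.comp_id]⟩

theorem formallySmooth_of_subsingleton_T1 (P : Algebra.Presentation A B ι σ)
    (h : Subsingleton (T1 P P.toExtension.Cotangent)) : Algebra.FormallySmooth A B := by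
  haveI : Algebra.FormallySmooth A P.toExtension.Ring := inferInstanceAs (Algebra.FormallySmooth A (MvPolynomial ι A))
  refine P.toExtension.formallySmooth_iff_split_injection.mpr ?_
  have h0 : LinearMap.id ∈ LinearMap.ker (homToT1 P P.toExtension.Cotangent) := Subsingleton.elim _ _
  rw [ker_homToT1] at h0
  obtain ⟨l, hl⟩ := h0
  exact ⟨l, hl⟩

theorem d2_injective (P : Algebra.Presentation A B ι σ)
    (h : ∀ q ∈ relKer P, (∀ s, q s ∈ P.toExtension.ker) → q ∈ trivRel P) : Function.Injective (d2 P) := by
  refine (injective_iff_map_eq_zero _).mpr fun z hz => ?_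
  obtain ⟨q, rfl⟩ := exists_mk_eq P z
  rw [d2_mk_tmul] at hz
  refine relClass_eq_zero q (h _ q.2 fun s => ?_)
  have h1 := congrArg (fun y => (L1basis P).repr y s) hz
  simpa [L1basis, Algebra.TensorProduct.basis_repr_tmul, Algebra.Extension.ker] using h1

theorem subsingleton_T2_of_injective (P : Algebra.Presentation A B ι σ) [Algebra.FormallySmooth A B]
    (h : Function.Injective (d2 P)) (M : Type m) [AddCommGroup M] [Module B M] : Subsingleton (T2 P M) := by
  haveI : Algebra.FormallySmooth A P.toExtension.Ring := inferInstanceAs (Algebra.FormallySmooth A (MvPolynomial ι A))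
  obtain ⟨l, hl⟩ := P.toExtension.formallySmooth_iff_split_injection.mp inferInstance
  choose f hf using fun i => toCot_surjective P (l (P.cotangentSpaceBasis i))
  let sec : P.toExtension.Cotangent →ₗ[B] L1 P := (P.cotangentSpaceBasis.constr B f) ∘ₗ P.toExtension.cotangentComplex
  have hsec : ∀ c, toCot P (sec c) = c := by
    intro c
    have : toCot P ∘ₗ P.cotangentSpaceBasis.constr B f = l :=
      P.cotangentSpaceBasis.ext fun i => by rw [LinearMap.comp_apply, Module.Basis.constr_basis, hf]
    have h1 := LinearMap.congr_fun this (P.toExtension.cotangentComplex c)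
    rw [LinearMap.comp_apply] at h1
    rw [show sec c = P.cotangentSpaceBasis.constr B f (P.toExtension.cotangentComplex c) from rfl, h1]
    exact LinearMap.congr_fun hl c
  refine subsingleton_of_forall_eq 0 fun x => ?_
  obtain ⟨φ, rfl⟩ := Submodule.Quotient.mk_surjective _ x
  let π : L1 P →ₗ[B] L1 P := LinearMap.id - sec ∘ₗ toCot P
  have hπ : ∀ y, π y ∈ LinearMap.range (d2 P) := fun y => by
    rw [range_d2_eq, LinearMap.mem_ker]
    simp [π, hsec]
  let e := LinearEquiv.ofInjective (d2 P) h
  refine (Submodule.Quotient.mk_eq_zero _).mpr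
    ⟨φ ∘ₗ e.symm.toLinearMap ∘ₗ π.codRestrict (LinearMap.range (d2 P)) hπ, LinearMap.ext fun z => ?_⟩
  show φ (e.symm ⟨π (d2 P z), _⟩) = φ z
  congr 1
  rw [LinearEquiv.symm_apply_eq]
  refine Subtype.ext ?_
  show π (d2 P z) = d2 P z
  have h0 : toCot P (d2 P z) = 0 := LinearMap.congr_fun (toCot_comp_d2 P) z
  simp [π, h0]

section TrivR

variable {R : Type u} [CommRing R]

theorem map_trivR {σ : Type v} {σ' : Type t} {a : σ → R} {b : σ' → R} (L : (σ →₀ R) →ₗ[R] (σ' →₀ R))
    (hL : ∀ x, Finsupp.linearCombination R b (L x) = Finsupp.linearCombination R a x) {y : σ →₀ R}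
    (hy : y ∈ trivR a) : L y ∈ trivR b := by
  have : (trivR a).map L ≤ trivR b := by
    rw [trivR, Submodule.map_span, Submodule.span_le]
    rintro _ ⟨_, ⟨p, q, rfl⟩, rfl⟩
    exact Submodule.subset_span ⟨L p, L q, by rw [hL, hL, map_sub, map_smul, map_smul]⟩
  exact this (Submodule.mem_map_of_mem hy)

theorem mem_trivR_of_regFam {σ : Type v} {a : σ → R} {n : ℕ} (f : Fin n → R) (hf : RegFam f)
    (hspan : Ideal.span (Set.range f) = Ideal.span (Set.range a)) {q : σ →₀ R}
    (hq : Finsupp.linearCombination R a q = 0) (hI : ∀ s, q s ∈ Ideal.span (Set.range a)) : q ∈ trivR a := by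
  have hv : ∀ s, ∃ v, Finsupp.linearCombination R f v = a s := fun s => by
    rw [← LinearMap.mem_range, Finsupp.range_linearCombination]
    exact (le_of_eq hspan.symm) (Ideal.subset_span ⟨s, rfl⟩)
  have hu : ∀ i, ∃ x, Finsupp.linearCombination R a x = f i := fun i => by
    rw [← LinearMap.mem_range, Finsupp.range_linearCombination]
    exact (le_of_eq hspan) (Ideal.subset_span ⟨i, rfl⟩)
  choose v hv using hv
  choose x hx using hu
  let V := Finsupp.linearCombination R v
  let U := Finsupp.linearCombination R x
  have hV : ∀ y, Finsupp.linearCombination R f (V y) = Finsupp.linearCombination R a y := fun y => by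
    rw [Finsupp.linearCombination_linearCombination]
    simp only [hv]
  have hU : ∀ y, Finsupp.linearCombination R a (U y) = Finsupp.linearCombination R f y := fun y => by
    rw [Finsupp.linearCombination_linearCombination]
    simp only [hx]
  have h1 : U (V q) ∈ trivR a := map_trivR U hU (ker_le_trivR f hf (by rw [LinearMap.mem_ker, hV, hq]))
  have h2 : q - U (V q) ∈ trivR a := by
    have : q - U (V q) = q.sum fun s r => r • (Finsupp.single s 1 - U (v s)) := by
      rw [show U (V q) = q.sum fun s r => r • U (v s) by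
        simp only [V, Finsupp.linearCombination_apply, map_finsuppSum, map_smul]]
      conv_lhs => arg 1; rw [← Finsupp.sum_single q]
      rw [← Finsupp.sum_sub]
      refine Finsupp.sum_congr fun s _ => ?_
      rw [smul_sub, Finsupp.smul_single, smul_eq_mul, mul_one]
    rw [this]
    refine sum_mem fun s _ => ?_
    obtain ⟨y, hy⟩ : q s ∈ LinearMap.range (Finsupp.linearCombination R a) := by
      rw [Finsupp.range_linearCombination]; exact hI s
    show q s • (Finsupp.single s 1 - U (v s)) ∈ trivR a
    have hk : Finsupp.linearCombination R a (Finsupp.single s 1 - U (v s)) = 0 := by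
      rw [map_sub, Finsupp.linearCombination_single, one_smul, hU, hv, sub_self]
    have h3 : Finsupp.linearCombination R a y • (Finsupp.single s 1 - U (v s)) -
        Finsupp.linearCombination R a (Finsupp.single s 1 - U (v s)) • y ∈ trivR a := Submodule.subset_span ⟨_, _, rfl⟩
    rwa [hk, zero_smul, sub_zero, hy] at h3
  rw [← sub_add_cancel q (U (V q))]
  exact add_mem h2 h1

theorem exists_smul_mem_trivR {σ : Type v} {a : σ → R} (S : Submonoid R) (Rp : Type u) [CommRing Rp]
    [Algebra R Rp] [IsLocalization S Rp] {q : σ →₀ R}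
    (h : Finsupp.mapRange (algebraMap R Rp) (map_zero _) q ∈ trivR (algebraMap R Rp ∘ a)) :
    ∃ s ∈ S, s • q ∈ trivR a := by
  classical
  let μ : (σ →₀ R) →ₗ[R] (σ →₀ Rp) := Finsupp.mapRange.linearMap (Algebra.linearMap R Rp)
  have hμ : ∀ x, Finsupp.linearCombination Rp (algebraMap R Rp ∘ a) (μ x) =
      algebraMap R Rp (Finsupp.linearCombination R a x) := fun x => by
    induction x using Finsupp.induction_linear with
    | zero => simp
    | add p r hp hr => simp only [map_add, hp, hr]
    | single k r => simp [μ]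
  have clear_den : ∀ x : σ →₀ Rp, ∃ s ∈ S, ∃ y, algebraMap R Rp s • x = μ y := fun x => by
    induction x using Finsupp.induction_linear with
    | zero => exact ⟨1, one_mem _, 0, by simp⟩
    | add p r hp hr =>
      obtain ⟨s, hs, y, hy⟩ := hp
      obtain ⟨s', hs', y', hy'⟩ := hr
      refine ⟨s * s', mul_mem hs hs', s' • y + s • y', ?_⟩
      simp only [map_add, map_smul, map_mul, smul_add, algebra_compatible_smul Rp s', algebra_compatible_smul Rp s,
        ← hy, ← hy', smul_smul, mul_comm (algebraMap R Rp s')]
    | single k r =>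
      obtain ⟨⟨b, s⟩, hb⟩ := IsLocalization.surj S r
      refine ⟨s, s.2, Finsupp.single k b, ?_⟩
      rw [Finsupp.smul_single, show μ (Finsupp.single k b) = Finsupp.single k (algebraMap R Rp b) from Finsupp.mapRange_single (hf := map_zero _), smul_eq_mul, ← hb, mul_comm]
  have key : ∀ y ∈ trivR (algebraMap R Rp ∘ a), ∃ s ∈ S, ∃ n ∈ trivR a, algebraMap R Rp s • y = μ n := by
    intro y hy
    induction hy using Submodule.span_induction with
    | mem y hy =>
      obtain ⟨p, r, rfl⟩ := hy
      obtain ⟨s, hs, p', hp⟩ := clear_den p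
      obtain ⟨s', hs', r', hr⟩ := clear_den r
      refine ⟨s * s', mul_mem hs hs', _, Submodule.subset_span ⟨p', r', rfl⟩, ?_⟩
      rw [map_sub, map_smul, map_smul, algebra_compatible_smul Rp (Finsupp.linearCombination R a p'),
        algebra_compatible_smul Rp (Finsupp.linearCombination R a r'), ← hμ, ← hμ, ← hp, ← hr]
      simp only [map_smul, map_mul, smul_sub, smul_smul, smul_eq_mul]
      congr 2 <;> ring
    | zero => exact ⟨1, one_mem _, 0, zero_mem _, by simp⟩
    | add p r _ _ hp hr =>
      obtain ⟨s, hs, y, hyt, hy⟩ := hp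
      obtain ⟨s', hs', y', hyt', hy'⟩ := hr
      refine ⟨s * s', mul_mem hs hs', s' • y + s • y', add_mem (Submodule.smul_mem _ _ hyt) (Submodule.smul_mem _ _ hyt'), ?_⟩
      simp only [map_add, map_smul, map_mul, smul_add, algebra_compatible_smul Rp s', algebra_compatible_smul Rp s,
        ← hy, ← hy', smul_smul, mul_comm (algebraMap R Rp s')]
    | smul c p _ hp =>
      obtain ⟨s, hs, y, hyt, hy⟩ := hp
      obtain ⟨⟨b, t⟩, hb⟩ := IsLocalization.surj S c
      refine ⟨s * t, mul_mem hs t.2, b • y, Submodule.smul_mem _ _ hyt, ?_⟩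
      rw [map_smul, algebra_compatible_smul Rp b, ← hy, smul_smul, smul_smul, map_mul, ← hb]
      congr 1
      ring
  obtain ⟨s, hs, n, hn, hsn⟩ := key _ h
  have h2 : μ (s • q - n) = 0 := by
    rw [map_sub, map_smul, algebra_compatible_smul Rp s, ← hsn]
    exact sub_self _
  have h3 : ∀ k, ∃ t : S, (t : R) * (s • q - n) k = 0 := fun k => by
    have h4 : algebraMap R Rp ((s • q - n) k) = 0 := DFunLike.congr_fun h2 k
    exact (IsLocalization.map_eq_zero_iff S Rp _).mp h4
  choose t ht using h3
  refine ⟨(∏ k ∈ (s • q - n).support, (t k : R)) * s, mul_mem (prod_mem fun k _ => (t k).2) hs, ?_⟩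
  have h5 : (∏ k ∈ (s • q - n).support, (t k : R)) • (s • q - n) = 0 := by
    ext k
    rw [Finsupp.smul_apply, Finsupp.zero_apply, smul_eq_mul]
    by_cases hk : k ∈ (s • q - n).support
    · rw [← Finset.prod_erase_mul _ _ hk, mul_assoc, ht, mul_zero]
    · rw [Finsupp.notMem_support_iff.mp hk, mul_zero]
  rw [smul_sub, sub_eq_zero, smul_smul] at h5
  rw [h5]
  exact Submodule.smul_mem _ _ hn

theorem mem_trivR_of_locally {σ : Type v} (a : σ → R)
    (h : ∀ (p : Ideal R) [p.IsMaximal], ∃ (n : ℕ) (f : Fin n → Localization.AtPrime p), RegFam f ∧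
      Ideal.span (Set.range f) = (Ideal.span (Set.range a)).map (algebraMap R (Localization.AtPrime p)))
    {q : σ →₀ R} (hq : Finsupp.linearCombination R a q = 0) (hI : ∀ s, q s ∈ Ideal.span (Set.range a)) :
    q ∈ trivR a := by
  let J : Ideal R := (trivR a).comap (LinearMap.toSpanSingleton R (σ →₀ R) q)
  suffices J = ⊤ by
    have h1 : (1 : R) ∈ J := this ▸ Submodule.mem_top
    simpa [J] using h1
  by_contra hJ
  obtain ⟨p, hp, hJp⟩ := Ideal.exists_le_maximal J hJ
  haveI := hp
  obtain ⟨n, f, hf, hspan⟩ := h p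
  let Rp := Localization.AtPrime p
  have hmap : ∀ x : σ →₀ R, Finsupp.linearCombination Rp (algebraMap R Rp ∘ a)
      (Finsupp.mapRange (algebraMap R Rp) (map_zero _) x) = algebraMap R Rp (Finsupp.linearCombination R a x) := by
    intro x
    induction x using Finsupp.induction_linear with
    | zero => simp
    | add p r hp hr => simp only [map_add, Finsupp.mapRange_add (map_add _), hp, hr]
    | single k r => simp
  have hspan' : Ideal.span (Set.range f) = Ideal.span (Set.range (algebraMap R Rp ∘ a)) := by
    rw [hspan, Ideal.map_span, ← Set.range_comp]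
  obtain ⟨s, hs, hsq⟩ := exists_smul_mem_trivR p.primeCompl Rp
    (mem_trivR_of_regFam f hf hspan' (q := Finsupp.mapRange (algebraMap R Rp) (map_zero _) q)
      (by rw [hmap, hq, map_zero]) fun k => by
        rw [Finsupp.mapRange_apply, ← hspan', hspan]
        exact Ideal.mem_map_of_mem _ (hI k))
  exact hs (hJp hsq)

end TrivR

section Regular

variable {R : Type u} [CommRing R] [IsRegularLocalRing R]

theorem exists_regFam_of_quot_regular (I : Ideal R) [IsRegularLocalRing (R ⧸ I)] :
    ∃ (n : ℕ) (f : Fin n → R), RegFam f ∧ Ideal.span (Set.range f) = I := by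
  obtain ⟨d, hd⟩ := RegLocal.exists_nat_ringKrullDim R
  obtain ⟨x, c, hc, hx, hI⟩ := RegLocal.exists_generators_of_quot_regular R hd I
  have hreg := regFam_of_isWeaklyRegular (RegLocal.isRegular_of_generators R hd x hx).toIsWeaklyRegular
  refine ⟨c, fun i => x (Fin.castLE hc i), fun i z hz => ?_, hI.symm⟩
  have hlen : (List.ofFn x).length = d := List.length_ofFn
  let j : Fin (List.ofFn x).length := ⟨i, by omega⟩
  have himg : (fun k : Fin (List.ofFn x).length => (List.ofFn x)[k]) '' {k | k < j} =
      (fun k => x (Fin.castLE hc k)) '' {k | k < i} := by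
    ext y
    simp only [Set.mem_image, Set.mem_ofPred_eq, Fin.getElem_fin, List.getElem_ofFn]
    constructor
    · rintro ⟨k, hk, rfl⟩
      exact ⟨⟨k, lt_trans (Fin.lt_def.mp hk) i.isLt⟩, Fin.lt_def.mpr (Fin.lt_def.mp hk), rfl⟩
    · rintro ⟨k, hk, rfl⟩
      exact ⟨⟨k, by omega⟩, Fin.lt_def.mpr (Fin.lt_def.mp hk), rfl⟩
  have hxj : (List.ofFn x)[j] = x (Fin.castLE hc i) := by simp [j]; rfl
  rw [← himg] at hz ⊢
  exact hreg j z (by simpa [hxj] using hz)

end Regular

section Localization

variable {R : Type u} [CommRing R] (S : Submonoid R) (L : Type u) [CommRing L] [Algebra R L] [IsLocalization S L]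

theorem exists_localPres : ∃ P : Algebra.Presentation R L S S,
    ∀ s : S, rel P s = MvPolynomial.C (s : R) * MvPolynomial.X s - 1 := by
  let val : S → L := fun s => IsLocalization.mk' L 1 s
  have hval : ∀ s : S, algebraMap R L s * val s = 1 := fun s => by
    show algebraMap R L s * IsLocalization.mk' L 1 s = 1
    rw [mul_comm, IsLocalization.mk'_spec, map_one]
  have hs : Function.Surjective (MvPolynomial.aeval (R := R) val) := fun z => by
    obtain ⟨r, s, rfl⟩ := IsLocalization.exists_mk'_eq S z
    refine ⟨MvPolynomial.C r * MvPolynomial.X s, ?_⟩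
    rw [map_mul, MvPolynomial.aeval_C, MvPolynomial.aeval_X, IsLocalization.mul_mk'_eq_mk'_of_mul, mul_one]
  refine ⟨{ toGenerators := Algebra.Generators.ofSurjective val hs,
            relation := fun s => MvPolynomial.C (s : R) * MvPolynomial.X s - 1,
            span_range_relation_eq_ker := ?_ }, fun s => rfl⟩
  rw [Algebra.Generators.ker_eq_ker_aeval_val]
  set J := Ideal.span (Set.range fun s : S => (MvPolynomial.C (s : R) * MvPolynomial.X s - 1 : MvPolynomial S R))
  refine le_antisymm (Ideal.span_le.mpr ?_) fun p hp => ?_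
  · rintro _ ⟨s, rfl⟩
    rw [SetLike.mem_coe, RingHom.mem_ker]
    show MvPolynomial.aeval val _ = 0
    rw [map_sub, map_mul, MvPolynomial.aeval_C, MvPolynomial.aeval_X, map_one, hval, sub_self]
  · let g : R →+* MvPolynomial S R ⧸ J := (Ideal.Quotient.mk J).comp MvPolynomial.C
    have hu : ∀ s : S, g s * Ideal.Quotient.mk J (MvPolynomial.X s) = 1 := fun s => by
      show Ideal.Quotient.mk J _ * _ = 1
      rw [← map_mul, ← sub_eq_zero, ← map_one (Ideal.Quotient.mk J), ← map_sub, Ideal.Quotient.eq_zero_iff_mem]
      exact Ideal.subset_span ⟨s, rfl⟩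
    let θ : L →+* MvPolynomial S R ⧸ J :=
      IsLocalization.lift (M := S) (g := g) fun s => isUnit_iff_exists_inv.mpr ⟨_, hu s⟩
    have hθ : θ.comp (MvPolynomial.aeval val).toRingHom = Ideal.Quotient.mk J := by
      refine MvPolynomial.ringHom_ext (fun r => ?_) fun s => ?_
      · show θ (MvPolynomial.aeval val (MvPolynomial.C r)) = _
        rw [MvPolynomial.aeval_C]
        exact IsLocalization.lift_eq _ r
      · show θ (MvPolynomial.aeval val (MvPolynomial.X s)) = _
        rw [MvPolynomial.aeval_X]
        show θ (IsLocalization.mk' L 1 s) = _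
        rw [IsLocalization.lift_mk'_spec, map_one, hu]
    rw [← Ideal.Quotient.eq_zero_iff_mem, ← hθ]
    show θ (MvPolynomial.aeval val p) = 0
    have hp' : MvPolynomial.aeval val p = 0 := hp
    rw [hp', map_zero]

include S in
theorem subsingleton_T1_T2_localization (M : Type u) [AddCommGroup M] [Module L M] :
    Subsingleton (T1 (canon R L) M) ∧ Subsingleton (T2 (canon R L) M) := by
  classical
  obtain ⟨P, hP⟩ := exists_localPres S L
  haveI : Algebra.FormallyEtale R L := Algebra.FormallyEtale.of_isLocalization S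
  refine ⟨subsingleton_T1_of_formallySmooth _ M, ?_⟩
  haveI := subsingleton_T2 P (fun c hc => ?_) M
  · exact subsingleton_T2_of_presentation M P _
  let l := c.support.toList
  let e : Fin l.length → S := fun i => l[i]
  have hinj : Function.Injective e := (Finset.nodup_toList c.support).injective_get
  have hc' : c = Finsupp.mapDomain e (Finsupp.comapDomain e c hinj.injOn) := by
    refine (Finsupp.mapDomain_comapDomain e hinj c fun x hx => ?_).symm
    obtain ⟨i, hi, h⟩ := List.getElem_of_mem (Finset.mem_toList.mpr hx)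
    exact ⟨⟨i, hi⟩, h⟩
  rw [hc']
  refine map_trivR (Finsupp.lmapDomain P.toExtension.Ring P.toExtension.Ring e)
    (fun x => by rw [Finsupp.lmapDomain_apply, Finsupp.linearCombination_mapDomain]) ?_
  refine ker_le_trivR (rel P ∘ e) (fun i x hx => ?_) ?_
  · let f : Fin l.length → MvPolynomial S R := fun j => MvPolynomial.C (e j : R) * MvPolynomial.X (e j) - 1
    have hf : rel P ∘ e = f := funext fun j => hP (e j)
    rw [hf] at hx ⊢
    let J : Ideal (MvPolynomial S R) := Ideal.span (f '' {j | j < i})
    show x ∈ J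
    let x' : MvPolynomial S R := x
    let φ : MvPolynomial S R →+* Polynomial (MvPolynomial S R ⧸ J) :=
      MvPolynomial.eval₂Hom ((Polynomial.C).comp ((Ideal.Quotient.mk J).comp MvPolynomial.C))
        fun s => if s = e i then Polynomial.X else Polynomial.C (Ideal.Quotient.mk J (MvPolynomial.X s))
    have hback : (Polynomial.evalRingHom (Ideal.Quotient.mk J (MvPolynomial.X (e i)))).comp φ = Ideal.Quotient.mk J := by
      refine MvPolynomial.ringHom_ext (fun r => ?_) fun s => ?_
      · simp [φ, f]
      · simp only [φ, RingHom.comp_apply, MvPolynomial.eval₂Hom_X', Polynomial.coe_evalRingHom]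
        split_ifs with h
        · rw [Polynomial.eval_X, h]
        · rw [Polynomial.eval_C]
    have hφJ : J ≤ RingHom.ker φ := by
      refine Ideal.span_le.mpr ?_
      rintro _ ⟨j, hj, rfl⟩
      rw [SetLike.mem_coe, RingHom.mem_ker]
      have hne : e j ≠ e i := fun h => (ne_of_lt (show j < i from hj)) (hinj h)
      have h1 : Ideal.Quotient.mk J (f j) = 0 := Ideal.Quotient.eq_zero_iff_mem.mpr (Ideal.subset_span ⟨j, hj, rfl⟩)
      rw [map_sub, map_mul, map_one] at h1
      show φ (MvPolynomial.C (e j : R) * MvPolynomial.X (e j) - 1) = 0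
      simp only [φ, map_sub, map_mul, map_one, MvPolynomial.eval₂Hom_C, MvPolynomial.eval₂Hom_X', if_neg hne,
        RingHom.comp_apply]
      rw [← map_mul, ← Polynomial.C_1, ← map_sub]
      exact (congrArg Polynomial.C h1).trans (map_zero _)
    have h2 : φ (f i * x') = 0 := hφJ hx
    rw [map_mul] at h2
    have h3 : φ (f i) =
        Polynomial.C (Ideal.Quotient.mk J (MvPolynomial.C (e i : R))) * Polynomial.X - 1 := by
      simp only [φ, f, map_sub, map_mul, map_one, MvPolynomial.eval₂Hom_C, MvPolynomial.eval₂Hom_X', RingHom.comp_apply, if_pos]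
    rw [h3] at h2
    have h4 : φ x' = 0 := by
      generalize φ x' = h at h2 ⊢
      ext n
      rw [sub_mul, one_mul, sub_eq_zero] at h2
      induction n with
      | zero => rw [← h2]; simp [mul_assoc]
      | succ n ih => rw [← h2, mul_assoc, Polynomial.coeff_C_mul, Polynomial.coeff_X_mul, ih]; simp
    show x' ∈ J
    rw [← Ideal.Quotient.eq_zero_iff_mem, ← hback, RingHom.comp_apply, h4, map_zero]
  · rw [LinearMap.mem_ker, ← Finsupp.linearCombination_mapDomain, ← hc']
    exact hc

end Localization

end Groth.Agent.CotTLib
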