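import Mathlib
import Groth.Prelude.Def_CotT2

/-! The cotangent complex of a presentation: exactness at `L1`, existence and composition of morphisms of presentations. -/

set_option autoImplicit false

noncomputable section

open TensorProduct

namespace Groth.Agent.CotTLib

open CotT

universe u v w t m u' v' w' t' u'' v'' w'' t''

section Complex

variable {A : Type u} {B : Type v} {ι : Type w} {σ : Type t}
variable [CommRing A] [CommRing B] [Algebra A B]
variable (P : Algebra.Presentation A B ι σ)

theorem surjective_algebraMap : Function.Surjective (algebraMap P.toExtension.Ring B) :=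
  P.toExtension.algebraMap_surjective

theorem exists_one_tmul {N : Type*} [AddCommMonoid N] [Module P.toExtension.Ring N]
    (x : B ⊗[P.toExtension.Ring] N) : ∃ n, (1 : B) ⊗ₜ[P.toExtension.Ring] n = x := by
  induction x using TensorProduct.induction_on with
  | zero => exact ⟨0, tmul_zero _ _⟩
  | tmul b n =>
    obtain ⟨r, rfl⟩ := surjective_algebraMap P b
    exact ⟨r • n, by rw [← smul_tmul, Algebra.smul_def, mul_one]⟩
  | add x y hx hy =>
    obtain ⟨a, rfl⟩ := hx
    obtain ⟨b, rfl⟩ := hy
    exact ⟨a + b, tmul_add _ _ _⟩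

theorem exists_mk_eq (z : L2 P) : ∃ q : relKer P, Submodule.Quotient.mk ((1 : B) ⊗ₜ q) = z := by
  obtain ⟨x, rfl⟩ := Submodule.Quotient.mk_surjective _ z
  obtain ⟨q, rfl⟩ := exists_one_tmul P x
  exact ⟨q, rfl⟩

theorem toCot_surjective : Function.Surjective (toCot P) := fun x => by
  obtain ⟨y, rfl⟩ := Algebra.Extension.Cotangent.mk_surjective x
  have hy : (y : P.toExtension.Ring) ∈ LinearMap.range (jmap P) := by rw [range_jmap]; exact y.2
  obtain ⟨f, hf⟩ := hy
  exact ⟨1 ⊗ₜ f, by rw [toCot_tmul, one_smul]; congr 1; exact Subtype.ext hf⟩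

/-- exactness of `L2 → L1 → I/I²` -/
theorem ker_toCot_le : LinearMap.ker (toCot P) ≤ LinearMap.range (d2 P) := fun x hx => by
  obtain ⟨f, rfl⟩ := exists_one_tmul P x
  rw [LinearMap.mem_ker, toCot_tmul, one_smul, ← LinearMap.mem_ker] at hx
  have hx2 : jmap P f ∈ P.toExtension.ker ^ 2 := by
    simpa [Algebra.Extension.Cotangent.mk_eq_zero_iff, jker_apply] using hx
  have key : P.toExtension.ker ^ 2 ≤ Submodule.map (jmap P) (P.toExtension.ker • (⊤ : Submodule P.toExtension.Ring (relMod P))) := by
    rw [Submodule.map_smul'', Submodule.map_top, range_jmap, sq]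
    exact le_of_eq rfl
  obtain ⟨g, hg, hgf⟩ := key hx2
  have h0 : (1 : B) ⊗ₜ[P.toExtension.Ring] g = 0 := by
    refine Submodule.smul_induction_on hg (fun r hr n _ => ?_) (fun a b ha hb => by rw [tmul_add, ha, hb, add_zero])
    rw [← smul_tmul, Algebra.smul_def, show algebraMap P.toExtension.Ring B r = 0 from hr, zero_mul, zero_tmul]
  refine ⟨Submodule.Quotient.mk (1 ⊗ₜ ⟨f - g, ?_⟩), ?_⟩
  · show jmap P (f - g) = 0
    rw [map_sub, hgf, sub_self]
  · rw [d2_mk_tmul, tmul_sub, h0, sub_zero]

theorem range_d2_eq : LinearMap.range (d2 P) = LinearMap.ker (toCot P) :=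
  le_antisymm (LinearMap.range_le_ker_iff.mpr (toCot_comp_d2 P)) (ker_toCot_le P)

variable (M : Type m) [AddCommGroup M] [Module B M]

theorem exists_of_cocycle {φ : L1 P →ₗ[B] M} (hφ : φ ∘ₗ d2 P = 0) :
    ∃ ψ : P.toExtension.Cotangent →ₗ[B] M, ψ ∘ₗ toCot P = φ := by
  have hle : LinearMap.ker (toCot P) ≤ LinearMap.ker φ :=
    (ker_toCot_le P).trans (LinearMap.range_le_ker_iff.mpr hφ)
  refine ⟨(LinearMap.ker (toCot P)).liftQ φ hle ∘ₗ
    ((toCot P).quotKerEquivOfSurjective (toCot_surjective P)).symm.toLinearMap, LinearMap.ext fun x => ?_⟩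
  have : ((toCot P).quotKerEquivOfSurjective (toCot_surjective P)).symm (toCot P x) = Submodule.Quotient.mk x := by
    rw [LinearEquiv.symm_apply_eq]; rfl
  simp [this]

theorem homToT1_surjective : Function.Surjective (homToT1 P M) := fun x => by
  obtain ⟨⟨φ, hφ⟩, rfl⟩ := Submodule.Quotient.mk_surjective _ x
  obtain ⟨ψ, hψ⟩ := exists_of_cocycle P M (φ := φ) hφ
  refine ⟨ψ, ?_⟩
  show Submodule.Quotient.mk _ = _
  congr 1
  exact Subtype.ext hψ

theorem ker_homToT1 :
    LinearMap.ker (homToT1 P M) = LinearMap.range (LinearMap.lcomp B M P.toExtension.cotangentComplex) := by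
  ext φ
  rw [LinearMap.mem_ker, homToT1, LinearMap.comp_apply, Submodule.mkQ_apply, Submodule.Quotient.mk_eq_zero]
  constructor
  · rintro ⟨ψ, hψ⟩
    refine ⟨ψ, LinearMap.ext fun x => ?_⟩
    obtain ⟨y, rfl⟩ := toCot_surjective P x
    exact LinearMap.congr_fun hψ y
  · rintro ⟨ψ, rfl⟩
    exact ⟨ψ, rfl⟩

theorem ker_d1Star :
    LinearMap.ker (d1Star P M) = LinearMap.ker (LinearMap.lcomp B M P.toExtension.cotangentComplex) := by
  ext ψ
  simp only [LinearMap.mem_ker, d1Star_apply, LinearMap.lcomp_apply']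
  constructor
  · intro h
    refine LinearMap.ext fun x => ?_
    obtain ⟨y, rfl⟩ := toCot_surjective P x
    exact LinearMap.congr_fun h y
  · intro h
    rw [CotT.d1, ← LinearMap.comp_assoc, h, LinearMap.zero_comp]

end Complex

section Hom

variable {A : Type u} {B : Type v} {ι : Type w} {σ : Type t}
variable {A' : Type u'} {B' : Type v'} {ι' : Type w'} {σ' : Type t'}
variable [CommRing A] [CommRing B] [Algebra A B] [CommRing A'] [CommRing B'] [Algebra A' B']
variable [Algebra A A'] [Algebra B B'] [Algebra A B'] [IsScalarTower A A' B'] [IsScalarTower A B B']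

theorem exists_presHom (P : Algebra.Presentation A B ι σ) (P' : Algebra.Presentation A' B' ι' σ')
    (hom : Algebra.Generators.Hom P.toGenerators P'.toGenerators) : ∃ h : PresHom P P', h.hom = hom := by
  have : ∀ s, ∃ f, jmap P' f = hom.toExtensionHom.toRingHom (rel P s) := fun s => by
    have h1 : hom.toExtensionHom.toRingHom (rel P s) ∈ LinearMap.range (jmap P') := by
      rw [range_jmap]
      show algebraMap P'.toExtension.Ring B' (hom.toExtensionHom.toRingHom (rel P s)) = 0
      rw [hom.toExtensionHom.algebraMap_toRingHom, algebraMap_rel, map_zero]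
    exact h1
  choose f hf using this
  exact ⟨⟨hom, f, hf⟩, rfl⟩

instance nonempty_presHom (P : Algebra.Presentation A B ι σ) (P' : Algebra.Presentation A' B' ι' σ') :
    Nonempty (PresHom P P') :=
  let ⟨h, _⟩ := exists_presHom P P' (Algebra.Generators.defaultHom _ _)
  ⟨h⟩

end Hom

section Comp

variable {A : Type u} {B : Type v} {ι : Type w} {σ : Type t}
variable {A' : Type u'} {B' : Type v'} {ι' : Type w'} {σ' : Type t'}
variable {A'' : Type u''} {B'' : Type v''} {ι'' : Type w''} {σ'' : Type t''}
variable [CommRing A] [CommRing B] [Algebra A B] [CommRing A'] [CommRing B'] [Algebra A' B']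
variable [CommRing A''] [CommRing B''] [Algebra A'' B'']
variable [Algebra A A'] [Algebra B B'] [Algebra A B'] [IsScalarTower A A' B'] [IsScalarTower A B B']
variable [Algebra A' A''] [Algebra B' B''] [Algebra A' B''] [IsScalarTower A' A'' B''] [IsScalarTower A' B' B'']
variable [Algebra A A''] [Algebra B B''] [Algebra A B''] [IsScalarTower A A'' B''] [IsScalarTower A B B'']
variable [IsScalarTower A A' A''] [IsScalarTower B B' B'']
variable {P : Algebra.Presentation A B ι σ} {P' : Algebra.Presentation A' B' ι' σ'}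
  {P'' : Algebra.Presentation A'' B'' ι'' σ''}

theorem exists_comp (g : PresHom P' P'') (h : PresHom P P') :
    ∃ k : PresHom P P'', (∀ r, k.ringHom r = g.ringHom (h.ringHom r)) ∧
      ∀ x, k.relModMap x = g.relModMap (h.relModMap x) := by
  have hr : ∀ r, (g.hom.comp h.hom).toExtensionHom.toRingHom r = g.ringHom (h.ringHom r) := fun r => by
    show (g.hom.comp h.hom).toAlgHom r = g.hom.toAlgHom (h.hom.toAlgHom r)
    rw [Algebra.Generators.Hom.toAlgHom_comp_apply]
  refine ⟨⟨g.hom.comp h.hom, fun s => g.relModMap (h.relVal s), fun s => ?_⟩, hr, fun x => ?_⟩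
  · rw [PresHom.jmap_relModMap, h.jmap_relVal, hr]
  · induction x using Finsupp.induction_linear with
    | zero => simp
    | add a b ha hb => simp only [map_add, ha, hb]
    | single s r =>
      rw [PresHom.relModMap_single, PresHom.relModMap_single, LinearMap.map_smulₛₗ]
      exact congrArg (· • g.relModMap (h.relVal s)) (hr r)

end Comp

end Groth.Agent.CotTLib
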