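import Groth.Agent.CotTLib.Pres

/-! `L2` is `Q/F₀`; a morphism of presentations bijective on `R` and `F` induces a bijection on `T²`. -/

set_option autoImplicit false

noncomputable section

open TensorProduct

namespace Groth.Agent.CotTLib

open CotT

universe u v w t m u' v' w' t'

section

variable {A : Type u} {B : Type v} {ι : Type w} {σ : Type t}
variable [CommRing A] [CommRing B] [Algebra A B]
variable (P : Algebra.Presentation A B ι σ)

theorem relClass_eq_zero_iff (q : relKer P) : relClass P q = 0 ↔ (q : relMod P) ∈ trivRel P := by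
  refine ⟨fun h => ?_, relClass_eq_zero q⟩
  have hI : ∀ (r : P.toExtension.Ring), algebraMap P.toExtension.Ring B r = 0 → ∀ x : relKer P,
      r • (Submodule.Quotient.mk (x : relMod P) : relMod P ⧸ trivRel P) = 0 := by
    intro r hr x
    have hr' : r ∈ LinearMap.range (jmap P) := by rw [range_jmap]; exact hr
    obtain ⟨f, rfl⟩ := hr'
    rw [← Submodule.Quotient.mk_smul, Submodule.Quotient.mk_eq_zero]
    show jmap P f • (x : relMod P) ∈ trivRel P
    have h2 : jmap P f • (x : relMod P) - jmap P (x : relMod P) • f ∈ trivRel P := Submodule.subset_span ⟨_, _, rfl⟩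
    rwa [show jmap P (x : relMod P) = 0 from x.2, zero_smul, sub_zero] at h2
  have hc : ∀ (r r' : P.toExtension.Ring), algebraMap P.toExtension.Ring B r = algebraMap P.toExtension.Ring B r' →
      ∀ x : relKer P, r • (Submodule.Quotient.mk (x : relMod P) : relMod P ⧸ trivRel P) = r' • Submodule.Quotient.mk (x : relMod P) := fun r r' e x => by
    rw [← sub_eq_zero, ← sub_smul]
    exact hI _ (by rw [map_sub, e, sub_self]) x
  have hs : ∀ b, algebraMap P.toExtension.Ring B (P.toExtension.σ b) = b := P.toExtension.algebraMap_σ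
  let Φ : B ⊗[P.toExtension.Ring] relKer P →+ relMod P ⧸ trivRel P :=
    TensorProduct.liftAddHom
      { toFun := fun b =>
          { toFun := fun x => P.toExtension.σ b • Submodule.Quotient.mk (x : relMod P)
            map_zero' := by simp
            map_add' := fun x y => by rw [Submodule.coe_add, Submodule.Quotient.mk_add, smul_add] }
        map_zero' := AddMonoidHom.ext fun x => hI _ (hs 0) x
        map_add' := fun b b' => AddMonoidHom.ext fun x =>
          (hc _ (P.toExtension.σ b + P.toExtension.σ b') (by rw [map_add, hs, hs, hs]) x).trans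
            (add_smul _ _ _) }
      (fun r b x => by
        show P.toExtension.σ (r • b) • (Submodule.Quotient.mk (x : relMod P) : relMod P ⧸ trivRel P) = P.toExtension.σ b • Submodule.Quotient.mk (r • (x : relMod P))
        rw [Submodule.Quotient.mk_smul, smul_smul]
        exact hc _ _ (by rw [map_mul, hs, hs, Algebra.smul_def, mul_comm]) _)
  obtain ⟨z, hz⟩ := (Submodule.Quotient.mk_eq_zero _).mp h
  have h0 : Φ ((1 : B) ⊗ₜ q) = 0 := by
    rw [← hz]
    clear hz
    induction z using TensorProduct.induction_on with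
    | zero => simp
    | add x y hx hy => rw [map_add, map_add, hx, hy, add_zero]
    | tmul b k =>
      show P.toExtension.σ b • Submodule.Quotient.mk (((trivRelKer P).subtype k : relKer P) : relMod P) = (0 : relMod P ⧸ trivRel P)
      rw [(Submodule.Quotient.mk_eq_zero (trivRel P) (x := (((trivRelKer P).subtype k : relKer P) : relMod P))).mpr k.2, smul_zero]
  have h1 : P.toExtension.σ 1 • (Submodule.Quotient.mk (q : relMod P) : relMod P ⧸ trivRel P) = 0 := h0
  rw [hc _ 1 (by rw [hs, map_one]), one_smul, Submodule.Quotient.mk_eq_zero] at h1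
  exact h1

end

section

variable {A : Type u} {A' : Type u'} {B : Type v} {ι : Type w} {σ : Type t} {ι' : Type w'} {σ' : Type t'}
variable [CommRing A] [CommRing A'] [CommRing B] [Algebra A B] [Algebra A' B] [Algebra A A'] [IsScalarTower A A' B]
variable {P : Algebra.Presentation A B ι σ} {P' : Algebra.Presentation A' B ι' σ'}
variable (h : PresHom P P') (M : Type m) [AddCommGroup M] [Module B M]

theorem trivRel_le_map (hF : Function.Surjective h.relModMap) (y : relMod P') (hy : y ∈ trivRel P')
    (hR : Function.Surjective h.ringHom) : ∃ x ∈ trivRel P, h.relModMap x = y := by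
  induction hy using Submodule.span_induction with
  | mem z hz =>
    obtain ⟨a, b, rfl⟩ := hz
    obtain ⟨a, rfl⟩ := hF a
    obtain ⟨b, rfl⟩ := hF b
    refine ⟨_, Submodule.subset_span ⟨a, b, rfl⟩, ?_⟩
    rw [map_sub, LinearMap.map_smulₛₗ, LinearMap.map_smulₛₗ, h.jmap_relModMap, h.jmap_relModMap]
  | zero => exact ⟨0, zero_mem _, map_zero _⟩
  | add y z _ _ hy hz =>
    obtain ⟨x, hx, rfl⟩ := hy
    obtain ⟨x', hx', rfl⟩ := hz
    exact ⟨x + x', add_mem hx hx', map_add _ _ _⟩
  | smul r y _ hy =>
    obtain ⟨x, hx, rfl⟩ := hy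
    obtain ⟨r, rfl⟩ := hR r
    exact ⟨r • x, Submodule.smul_mem _ _ hx, LinearMap.map_smulₛₗ _ _ _⟩

theorem L2map_bijective (hF : Function.Bijective h.relModMap) (hR : Function.Bijective h.ringHom) :
    Function.Bijective h.L2map := by
  constructor
  · refine (injective_iff_map_eq_zero _).mpr fun z hz => ?_
    obtain ⟨q, rfl⟩ := exists_mk_eq P z
    have h1 : relClass P' (h.relKerMap q) = 0 := by rw [← L2map_relClass]; exact hz
    obtain ⟨x, hx, hxq⟩ := trivRel_le_map h hF.2 _ ((relClass_eq_zero_iff P' _).mp h1) hR.2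
    have hxe : x = (q : relMod P) := hF.1 hxq
    exact relClass_eq_zero q (hxe ▸ hx)
  · intro z
    obtain ⟨q, rfl⟩ := exists_mk_eq P' z
    obtain ⟨x, hx⟩ := hF.2 (q : relMod P')
    have hxk : x ∈ relKer P := by
      refine hR.1 ?_
      rw [map_zero, ← h.jmap_relModMap, hx]
      exact q.2
    refine ⟨relClass P ⟨x, hxk⟩, ?_⟩
    rw [L2map_relClass]
    exact congrArg (relClass P') (Subtype.ext hx)

theorem L1map_bijective (hF : Function.Bijective h.relModMap) (hR : Function.Bijective h.ringHom) :
    Function.Bijective h.L1map := by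
  let eR := RingEquiv.ofBijective _ hR
  let eF := Equiv.ofBijective _ hF
  have hR' : ∀ r, h.ringHom (eR.symm r) = r := eR.apply_symm_apply
  have hF' : ∀ x, h.relModMap (eF.symm x) = x := eF.apply_symm_apply
  let g : relMod P' →ₛₗ[eR.symm.toRingHom] relMod P :=
    { toFun := eF.symm
      map_add' := fun a b => hF.1 (by rw [hF', map_add, hF', hF'])
      map_smul' := fun r a => hF.1 (by rw [hF', LinearMap.map_smulₛₗ, hF']; exact congrArg (· • a) (hR' r).symm) }
  have hτ : ∀ r, algebraMap P.toExtension.Ring B (eR.symm.toRingHom r) =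
      algebraMap B B (algebraMap P'.toExtension.Ring B r) := fun r => by
    have h1 := h.algebraMap_ringHom (eR.symm r)
    rw [hR'] at h1
    exact h1.symm
  refine Function.bijective_iff_has_inverse.mpr ⟨tensorMap eR.symm.toRingHom hτ g, fun z => ?_, fun z => ?_⟩
  · obtain ⟨f, rfl⟩ := exists_one_tmul P z
    show (1 : B) ⊗ₜ[P.toExtension.Ring] eF.symm (h.relModMap f) = _
    rw [show eF.symm (h.relModMap f) = f from eF.symm_apply_apply f]
  · obtain ⟨f, rfl⟩ := exists_one_tmul P' z
    show (1 : B) ⊗ₜ[P'.toExtension.Ring] h.relModMap (eF.symm f) = _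
    rw [hF']

theorem T2pull_bijective_of_bijective (hF : Function.Bijective h.relModMap) (hR : Function.Bijective h.ringHom) :
    Function.Bijective (h.T2pull M) := by
  have h1 := L1map_bijective h hF hR
  have h2 := L2map_bijective h hF hR
  constructor
  · refine (injective_iff_map_eq_zero _).mpr fun x hx => ?_
    obtain ⟨φ, rfl⟩ := Submodule.Quotient.mk_surjective _ x
    obtain ⟨ψ, hψ⟩ := (Submodule.Quotient.mk_eq_zero _).mp hx
    let e1 := Equiv.ofBijective _ h1
    have he : ∀ z, h.L1map (e1.symm z) = z := e1.apply_symm_apply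
    let ψ' : L1 P' →ₗ[B] M :=
      { toFun := fun z => ψ (e1.symm z)
        map_add' := fun a b => by rw [← map_add]; exact congrArg ψ (h1.1 (by rw [he, map_add, he, he]))
        map_smul' := fun c a => by
          rw [RingHom.id_apply, ← map_smul]
          exact congrArg ψ (h1.1 (by rw [he, LinearMap.map_smulₛₗ, he]; rfl)) }
    refine (Submodule.Quotient.mk_eq_zero _).mpr ⟨ψ', LinearMap.ext fun z => ?_⟩
    obtain ⟨y, rfl⟩ := h2.2 z
    show ψ (e1.symm (d2 P' (h.L2map y))) = φ (h.L2map y)
    rw [h.d2_L2map, show e1.symm (h.L1map (d2 P y)) = d2 P y from e1.symm_apply_apply _]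
    exact LinearMap.congr_fun hψ y
  · intro x
    obtain ⟨φ, rfl⟩ := Submodule.Quotient.mk_surjective _ x
    let e2 := Equiv.ofBijective _ h2
    have he : ∀ z, h.L2map (e2.symm z) = z := e2.apply_symm_apply
    refine ⟨Submodule.Quotient.mk
      { toFun := fun z => φ (e2.symm z)
        map_add' := fun a b => by rw [← map_add]; exact congrArg φ (h2.1 (by rw [he, map_add, he, he]))
        map_smul' := fun c a => by
          rw [RingHom.id_apply, ← map_smul]
          exact congrArg φ (h2.1 (by rw [he, LinearMap.map_smulₛₗ, he]; rfl)) }, ?_⟩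
    exact congrArg Submodule.Quotient.mk (LinearMap.ext fun z => congrArg φ (e2.symm_apply_apply z))

end

end Groth.Agent.CotTLib
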