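import Groth.Agent.CotTLib.Homotopy

/-! Functoriality of the pull-back maps and independence of the presentation. -/

set_option autoImplicit false

noncomputable section

open TensorProduct

namespace Groth.Agent.CotTLib

open CotT

universe u v w t m u' v' w' t' u'' v'' w'' t''

section Comp

variable {A : Type u} {B : Type v} {ι : Type w} {σ : Type t}
variable {A' : Type u'} {B' : Type v'} {ι' : Type w'} {σ' : Type t'}
variable {A'' : Type u''} {B'' : Type v''} {ι'' : Type w''} {σ'' : Type t''}
variable [CommRing A] [CommRing B] [Algebra A B] [CommRing A'] [CommRing B'] [Algebra A' B']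
variable [CommRing A''] [CommRing B''] [Algebra A'' B'']
variable [Algebra A A'] [Algebra B B'] [Algebra A B'] [IsScalarTower A A' B'] [IsScalarTower A B B']
variable [Algebra A' A''] [Algebra B' B''] [Algebra A' B''] [IsScalarTower A' A'' B''] [IsScalarTower A' B' B'']
variable [Algebra A A''] [Algebra B B''] [Algebra A B''] [IsScalarTower A A'' B''] [IsScalarTower A B B'']
variable [IsScalarTower A A' A''] [IsScalarTower B B' B'']
variable {P : Algebra.Presentation A B ι σ} {P' : Algebra.Presentation A' B' ι' σ'}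
  {P'' : Algebra.Presentation A'' B'' ι'' σ''}
variable (M : Type m) [AddCommGroup M] [Module B'' M] [Module B' M] [Module B M]
  [IsScalarTower B' B'' M] [IsScalarTower B B'' M] [IsScalarTower B B' M]

theorem T0pull_comp (g : PresHom P' P'') (h : PresHom P P') (k : PresHom P P'') (x : T0 P'' M) :
    k.T0pull M x = h.T0pull M (g.T0pull M x) := by
  obtain ⟨c, hc⟩ := exists_presHom P P'' (g.hom.comp h.hom)
  rw [T0pull_eq k c]
  refine Subtype.ext (LinearMap.ext fun z => ?_)
  show (x : L0 P'' →ₗ[B''] M) (c.L0map z) = (x : L0 P'' →ₗ[B''] M) (g.L0map (h.L0map z))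
  congr 1
  rw [PresHom.L0map_apply, hc, Algebra.Generators.Hom.toExtensionHom_comp,
    Algebra.Extension.CotangentSpace.map_comp_apply]
  rfl

theorem T1pull_comp (g : PresHom P' P'') (h : PresHom P P') (k : PresHom P P'') (x : T1 P'' M) :
    k.T1pull M x = h.T1pull M (g.T1pull M x) := by
  obtain ⟨c, -, hc⟩ := exists_comp g h
  rw [T1pull_eq k c]
  obtain ⟨φ, rfl⟩ := Submodule.Quotient.mk_surjective _ x
  show Submodule.Quotient.mk (c.cocycles1Pull M φ) = Submodule.Quotient.mk (h.cocycles1Pull M (g.cocycles1Pull M φ))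
  congr 1
  refine Subtype.ext (LinearMap.ext fun z => ?_)
  show (φ : L1 P'' →ₗ[B''] M) (c.L1map z) = (φ : L1 P'' →ₗ[B''] M) (g.L1map (h.L1map z))
  congr 1
  obtain ⟨f, rfl⟩ := exists_one_tmul P z
  simp [hc]

theorem T2pull_comp (g : PresHom P' P'') (h : PresHom P P') (k : PresHom P P'') (x : T2 P'' M) :
    k.T2pull M x = h.T2pull M (g.T2pull M x) := by
  obtain ⟨c, -, hc⟩ := exists_comp g h
  rw [T2pull_eq k c]
  obtain ⟨φ, rfl⟩ := Submodule.Quotient.mk_surjective _ x
  show Submodule.Quotient.mk (c.pull2 M φ) = Submodule.Quotient.mk (h.pull2 M (g.pull2 M φ))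
  congr 1
  refine LinearMap.ext fun z => ?_
  show φ (c.L2map z) = φ (g.L2map (h.L2map z))
  congr 1
  obtain ⟨q, rfl⟩ := exists_mk_eq P z
  simp only [PresHom.L2map_mk_tmul, map_one]
  congr 2
  exact Subtype.ext (hc q)

end Comp

section Id

variable {A : Type u} {B : Type v} {ι : Type w} {σ : Type t}
variable [CommRing A] [CommRing B] [Algebra A B]
variable (P : Algebra.Presentation A B ι σ)
variable (M : Type m) [AddCommGroup M] [Module B M]

theorem relModMap_id (x : relMod P) : (PresHom.id P).relModMap x = x := by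
  induction x using Finsupp.induction_linear with
  | zero => simp
  | add a b ha hb => rw [map_add, ha, hb]
  | single s r =>
    rw [PresHom.relModMap_single]
    have : (PresHom.id P).ringHom r = r := DFunLike.congr_fun (Algebra.Generators.Hom.toAlgHom_id (P := P.toGenerators)) r
    rw [this]
    show r • Finsupp.single s (1 : P.toExtension.Ring) = _
    rw [Finsupp.smul_single, smul_eq_mul, mul_one]

theorem T0pull_self (h : PresHom P P) (x : T0 P M) : h.T0pull M x = x := by
  rw [T0pull_eq h (PresHom.id P)]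
  refine Subtype.ext (LinearMap.ext fun z => ?_)
  show (x : L0 P →ₗ[B] M) ((PresHom.id P).L0map z) = _
  rw [PresHom.L0map_apply]
  congr 1
  show Algebra.Extension.CotangentSpace.map (Algebra.Generators.Hom.id P.toGenerators).toExtensionHom z = z
  rw [Algebra.Generators.Hom.toExtensionHom_id, Algebra.Extension.CotangentSpace.map_id]
  rfl

theorem T1pull_self (h : PresHom P P) (x : T1 P M) : h.T1pull M x = x := by
  rw [T1pull_eq h (PresHom.id P)]
  obtain ⟨φ, rfl⟩ := Submodule.Quotient.mk_surjective _ x
  show Submodule.Quotient.mk ((PresHom.id P).cocycles1Pull M φ) = _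
  congr 1
  refine Subtype.ext (LinearMap.ext fun z => ?_)
  show (φ : L1 P →ₗ[B] M) ((PresHom.id P).L1map z) = _
  congr 1
  obtain ⟨f, rfl⟩ := exists_one_tmul P z
  rw [PresHom.L1map_tmul, relModMap_id, map_one]

theorem T2pull_self (h : PresHom P P) (x : T2 P M) : h.T2pull M x = x := by
  rw [T2pull_eq h (PresHom.id P)]
  obtain ⟨φ, rfl⟩ := Submodule.Quotient.mk_surjective _ x
  show Submodule.Quotient.mk ((PresHom.id P).pull2 M φ) = _
  congr 1
  refine LinearMap.ext fun z => ?_
  show φ ((PresHom.id P).L2map z) = _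
  congr 1
  obtain ⟨q, rfl⟩ := exists_mk_eq P z
  rw [PresHom.L2map_mk_tmul]
  rw [map_one]
  congr 2
  exact Subtype.ext (relModMap_id P q)

variable {ι' : Type w'} {σ' : Type t'} {P} {P' : Algebra.Presentation A B ι' σ'}

theorem T0pull_bijective (f : PresHom P P') : Function.Bijective (f.T0pull M) := by
  obtain ⟨g⟩ := (inferInstance : Nonempty (PresHom P' P))
  obtain ⟨c, -, -⟩ := exists_comp g f
  obtain ⟨d, -, -⟩ := exists_comp f g
  exact Function.bijective_iff_has_inverse.mpr ⟨g.T0pull M,
    fun x => by rw [← T0pull_comp M f g d, T0pull_self],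
    fun x => by rw [← T0pull_comp M g f c, T0pull_self]⟩

theorem T1pull_bijective (f : PresHom P P') : Function.Bijective (f.T1pull M) := by
  obtain ⟨g⟩ := (inferInstance : Nonempty (PresHom P' P))
  obtain ⟨c, -, -⟩ := exists_comp g f
  obtain ⟨d, -, -⟩ := exists_comp f g
  exact Function.bijective_iff_has_inverse.mpr ⟨g.T1pull M,
    fun x => by rw [← T1pull_comp M f g d, T1pull_self],
    fun x => by rw [← T1pull_comp M g f c, T1pull_self]⟩

theorem T2pull_bijective (f : PresHom P P') : Function.Bijective (f.T2pull M) := by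
  obtain ⟨g⟩ := (inferInstance : Nonempty (PresHom P' P))
  obtain ⟨c, -, -⟩ := exists_comp g f
  obtain ⟨d, -, -⟩ := exists_comp f g
  exact Function.bijective_iff_has_inverse.mpr ⟨g.T2pull M,
    fun x => by rw [← T2pull_comp M f g d, T2pull_self],
    fun x => by rw [← T2pull_comp M g f c, T2pull_self]⟩

theorem nonempty_T0_equiv (P : Algebra.Presentation A B ι σ) (P' : Algebra.Presentation A B ι' σ') :
    Nonempty (T0 P M ≃ₗ[B] T0 P' M) :=
  let ⟨f⟩ := (inferInstance : Nonempty (PresHom P' P))
  ⟨LinearEquiv.ofBijective (f.T0pull M) (T0pull_bijective M f)⟩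

theorem nonempty_T1_equiv (P : Algebra.Presentation A B ι σ) (P' : Algebra.Presentation A B ι' σ') :
    Nonempty (T1 P M ≃ₗ[B] T1 P' M) :=
  let ⟨f⟩ := (inferInstance : Nonempty (PresHom P' P))
  ⟨LinearEquiv.ofBijective (f.T1pull M) (T1pull_bijective M f)⟩

theorem nonempty_T2_equiv (P : Algebra.Presentation A B ι σ) (P' : Algebra.Presentation A B ι' σ') :
    Nonempty (T2 P M ≃ₗ[B] T2 P' M) :=
  let ⟨f⟩ := (inferInstance : Nonempty (PresHom P' P))
  ⟨LinearEquiv.ofBijective (f.T2pull M) (T2pull_bijective M f)⟩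

theorem subsingleton_T1_of_presentation (P : Algebra.Presentation A B ι σ) (P' : Algebra.Presentation A B ι' σ')
    [Subsingleton (T1 P M)] : Subsingleton (T1 P' M) :=
  (nonempty_T1_equiv M P P').some.symm.toEquiv.subsingleton

theorem subsingleton_T2_of_presentation (P : Algebra.Presentation A B ι σ) (P' : Algebra.Presentation A B ι' σ')
    [Subsingleton (T2 P M)] : Subsingleton (T2 P' M) :=
  (nonempty_T2_equiv M P P').some.symm.toEquiv.subsingleton

end Id

end Groth.Agent.CotTLib
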