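import Groth.Agent.CotTLib.Compare
import Groth.Prelude.Def_Exal

/-! Extensions of `B` by `L` and `T¹`. -/

set_option autoImplicit false

noncomputable section

open TensorProduct

attribute [local instance] Exal.opModule Exal.isCentralScalar_opModule

namespace Groth.Agent.CotTLib

open CotT

universe u

variable {A B : Type u} [CommRing A] [CommRing B] [Algebra A B] {ι σ : Type u}
variable (P : Algebra.Presentation A B ι σ)
variable (L : Type u) [AddCommGroup L] [Module B L]

/-- `L` as a module over the polynomial ring -/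
abbrev ringModule : Module P.toExtension.Ring L := Module.compHom L (algebraMap P.toExtension.Ring B)

theorem cot_smul (φ : P.toExtension.Cotangent →ₗ[B] L) (r : P.toExtension.Ring) (x : P.toExtension.ker) :
    φ (Algebra.Extension.Cotangent.mk (r • x)) = algebraMap P.toExtension.Ring B r • φ (Algebra.Extension.Cotangent.mk x) := by
  rw [map_smul, ← IsScalarTower.algebraMap_smul B r (Algebra.Extension.Cotangent.mk x), map_smul]

/-- the trivial extension of the polynomial ring by `L` -/
abbrev Pre : Type u :=
  @Exal.Ext.TrivCarrier A P.toExtension.Ring L _ _ _ _ (ringModule P L)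

/-- pairs `(r, l)` -/
def pre (r : P.toExtension.Ring) (l : L) : Pre P L :=
  letI := ringModule P L
  (TrivSqZeroExt.inl r + TrivSqZeroExt.inr l : TrivSqZeroExt P.toExtension.Ring L)

/-- first component -/
def preR (x : Pre P L) : P.toExtension.Ring := TrivSqZeroExt.fst x

/-- second component -/
def preL (x : Pre P L) : L := TrivSqZeroExt.snd x

variable {P L}

theorem pre_ext {x y : Pre P L} (h1 : preR P L x = preR P L y) (h2 : preL P L x = preL P L y) : x = y := by
  letI := ringModule P L
  exact TrivSqZeroExt.ext h1 h2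

theorem preR_pre (r : P.toExtension.Ring) (l : L) : preR P L (pre P L r l) = r := by
  letI := ringModule P L
  exact (TrivSqZeroExt.fst_add _ _).trans (add_zero _)

theorem preL_pre (r : P.toExtension.Ring) (l : L) : preL P L (pre P L r l) = l := by
  letI := ringModule P L
  exact (TrivSqZeroExt.snd_add _ _).trans (zero_add _)

theorem preR_add (x y : Pre P L) : preR P L (x + y) = preR P L x + preR P L y := rfl
theorem preL_add (x y : Pre P L) : preL P L (x + y) = preL P L x + preL P L y := rfl
theorem preR_zero : preR P L (0 : Pre P L) = 0 := rfl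
theorem preL_zero : preL P L (0 : Pre P L) = 0 := rfl
theorem preR_one : preR P L (1 : Pre P L) = 1 := rfl
theorem preL_one : preL P L (1 : Pre P L) = 0 := rfl
theorem preR_mul (x y : Pre P L) : preR P L (x * y) = preR P L x * preR P L y := rfl
theorem preL_mul (x y : Pre P L) : preL P L (x * y) =
    algebraMap P.toExtension.Ring B (preR P L x) • preL P L y + algebraMap P.toExtension.Ring B (preR P L y) • preL P L x := rfl
theorem preR_algebraMap (a : A) : preR P L (algebraMap A (Pre P L) a) = algebraMap A P.toExtension.Ring a := rfl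
theorem preL_algebraMap (a : A) : preL P L (algebraMap A (Pre P L) a) = 0 := rfl

variable (P) in
/-- the graph of `-φ` -/
def gKer (φ : P.toExtension.Cotangent →ₗ[B] L) : Ideal (Pre P L) where
  carrier := {x | ∃ h : preR P L x ∈ P.toExtension.ker, preL P L x = -φ (Algebra.Extension.Cotangent.mk ⟨preR P L x, h⟩)}
  zero_mem' := by
    refine ⟨by rw [preR_zero]; exact zero_mem _, ?_⟩
    rw [preL_zero, show (⟨preR P L (0 : Pre P L), _⟩ : P.toExtension.ker) = 0 from Subtype.ext (preR_zero (P := P) (L := L)), map_zero,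
      map_zero, neg_zero]
  add_mem' := by
    rintro x y ⟨hx, ex⟩ ⟨hy, ey⟩
    refine ⟨by rw [preR_add]; exact add_mem hx hy, ?_⟩
    rw [preL_add, ex, ey, ← neg_add, ← map_add, ← map_add]
    rfl
  smul_mem' := by
    rintro c x ⟨hx, ex⟩
    rw [smul_eq_mul]
    refine ⟨by rw [preR_mul]; exact Ideal.mul_mem_left _ _ hx, ?_⟩
    rw [preL_mul, ex, show algebraMap P.toExtension.Ring B (preR P L x) = 0 from hx, zero_smul, add_zero, smul_neg,
      ← cot_smul]
    rfl

theorem mem_gKer_iff {φ : P.toExtension.Cotangent →ₗ[B] L} {x : Pre P L} : x ∈ gKer P φ ↔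
    ∃ h : preR P L x ∈ P.toExtension.ker, preL P L x = -φ (Algebra.Extension.Cotangent.mk ⟨preR P L x, h⟩) := Iff.rfl

variable (P) in
/-- the projection to `B` -/
def preProj : Pre P L →ₐ[A] B where
  toFun x := algebraMap P.toExtension.Ring B (preR P L x)
  map_one' := map_one _
  map_mul' x y := by rw [preR_mul, map_mul]
  map_zero' := map_zero _
  map_add' x y := by rw [preR_add, map_add]
  commutes' a := by rw [preR_algebraMap, ← IsScalarTower.algebraMap_apply]

variable (P) in
/-- the extension of `φ` -/
def extOf (φ : P.toExtension.Cotangent →ₗ[B] L) : Exal.Ext A B L where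
  E := Pre P L ⧸ gKer P φ
  proj := Ideal.Quotient.liftₐ (gKer P φ) (preProj P) fun x hx => hx.1
  incl :=
    { toFun := fun l => Ideal.Quotient.mk (gKer P φ) (pre P L 0 l)
      map_zero' := by
        rw [show pre P L 0 0 = 0 from pre_ext (by rw [preR_pre]; rfl) (by rw [preL_pre]; rfl)]
        exact map_zero _
      map_add' := fun a b => by
        rw [← map_add]
        exact congrArg _ (pre_ext (by rw [preR_add, preR_pre, preR_pre, preR_pre, add_zero])
          (by rw [preL_add, preL_pre, preL_pre, preL_pre])) }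
  isExtension :=
    { proj_surjective := fun b => by
        obtain ⟨r, rfl⟩ := P.toExtension.algebraMap_surjective b
        exact ⟨Ideal.Quotient.mk _ (pre P L r 0), congrArg (algebraMap P.toExtension.Ring B) (preR_pre r 0)⟩
      incl_injective := fun a b h => by
        obtain ⟨hk, he⟩ := mem_gKer_iff.mp (Ideal.Quotient.eq.mp h)
        have hR : preR P L (pre P L 0 a - pre P L 0 b) = 0 := by
          show preR P L (pre P L 0 a) - preR P L (pre P L 0 b) = 0
          rw [preR_pre, preR_pre, sub_zero]
        rw [show (⟨_, hk⟩ : P.toExtension.ker) = 0 from Subtype.ext hR, map_zero, map_zero, neg_zero] at he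
        have he' : preL P L (pre P L 0 a) - preL P L (pre P L 0 b) = 0 := he
        rwa [preL_pre, preL_pre, sub_eq_zero] at he'
      exact := fun x => by
        obtain ⟨x, rfl⟩ := Ideal.Quotient.mk_surjective x
        constructor
        · intro h
          have hx : preR P L x ∈ P.toExtension.ker := h
          refine ⟨preL P L x + φ (Algebra.Extension.Cotangent.mk ⟨preR P L x, hx⟩), ?_⟩
          refine (Ideal.Quotient.eq.mpr (mem_gKer_iff.mpr ?_))
          have hR : preR P L (pre P L 0 (preL P L x + φ (Algebra.Extension.Cotangent.mk ⟨preR P L x, hx⟩)) - x) =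
              -preR P L x := by
            show preR P L (pre P L 0 _) - preR P L x = _
            rw [preR_pre, zero_sub]
          refine ⟨by rw [hR]; exact neg_mem hx, ?_⟩
          rw [show (⟨preR P L (pre P L 0 _ - x), _⟩ : P.toExtension.ker) = -⟨preR P L x, hx⟩ from Subtype.ext hR,
            map_neg, map_neg, neg_neg]
          show preL P L (pre P L 0 _) - preL P L x = _
          rw [preL_pre, add_sub_cancel_left]
        · rintro ⟨l, hl⟩
          rw [← hl]
          exact (congrArg (algebraMap P.toExtension.Ring B) (preR_pre 0 l)).trans (map_zero _)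
      mul_incl := fun x l => by
        obtain ⟨x, rfl⟩ := Ideal.Quotient.mk_surjective x
        show Ideal.Quotient.mk _ x * Ideal.Quotient.mk _ _ = Ideal.Quotient.mk _ _
        rw [← map_mul]
        refine congrArg _ (pre_ext ?_ ?_)
        · rw [preR_mul, preR_pre, preR_pre, mul_zero]
        · rw [preL_mul, preR_pre, map_zero, zero_smul, add_zero, preL_pre, preL_pre]
          rfl }

variable {X : Exal.Ext A B L}

theorem incl_mul_incl (a b : L) : X.incl a * X.incl b = 0 := by
  rw [X.isExtension.mul_incl, (X.isExtension.exact _).mpr ⟨a, rfl⟩, zero_smul, map_zero]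

/-- `θ` is a lift of the projection of the polynomial ring to `X` inducing `φ` -/
def Lifts (θ : P.toExtension.Ring →ₐ[A] X.E) (φ : P.toExtension.Cotangent →ₗ[B] L) : Prop :=
  (∀ r, X.proj (θ r) = algebraMap P.toExtension.Ring B r) ∧
    ∀ x : P.toExtension.ker, θ x = X.incl (φ (Algebra.Extension.Cotangent.mk x))

theorem exists_lifts : ∃ (θ : P.toExtension.Ring →ₐ[A] X.E) (φ : P.toExtension.Cotangent →ₗ[B] L), Lifts θ φ := by
  choose e he using fun i => X.isExtension.proj_surjective (P.val i)
  let θ₀ : MvPolynomial ι A →ₐ[A] X.E := MvPolynomial.aeval e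
  have hθ₀ : X.proj.comp θ₀ = MvPolynomial.aeval P.val := MvPolynomial.algHom_ext fun i => by
    simp [θ₀, he]
  let θ : P.toExtension.Ring →ₐ[A] X.E :=
    { toRingHom := θ₀.toRingHom, commutes' := fun a => θ₀.commutes a }
  have hθ : ∀ r, X.proj (θ r) = algebraMap P.toExtension.Ring B r := fun r => by
    rw [algebraMap_toExtension]
    exact AlgHom.congr_fun hθ₀ r
  have hk : ∀ x : P.toExtension.ker, ∃ l, X.incl l = θ x := fun x =>
    (X.isExtension.exact _).mp (by rw [hθ]; exact x.2)
  choose f hf using hk
  have hfadd : ∀ x y, f (x + y) = f x + f y := fun x y => X.isExtension.incl_injective (by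
    rw [map_add, hf, hf, hf, ← map_add]; rfl)
  have hfsmul : ∀ (r : P.toExtension.Ring) x, f (r • x) = algebraMap P.toExtension.Ring B r • f x := fun r x =>
    X.isExtension.incl_injective (by
      rw [hf, ← hθ, ← X.isExtension.mul_incl, hf, ← map_mul]; rfl)
  have hsq : ∀ x : P.toExtension.ker, Algebra.Extension.Cotangent.mk x = 0 → f x = 0 := fun x hx => by
    rw [Algebra.Extension.Cotangent.mk_eq_zero_iff, sq] at hx
    refine X.isExtension.incl_injective ?_
    rw [hf, map_zero]
    refine Submodule.mul_induction_on hx (fun a ha b hb => ?_) (fun a b ha hb => by rw [map_add, ha, hb, add_zero])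
    rw [map_mul, ← hf ⟨a, ha⟩, ← hf ⟨b, hb⟩, incl_mul_incl]
  choose g hg using fun c : P.toExtension.Cotangent => Algebra.Extension.Cotangent.mk_surjective c
  have hwd : ∀ x y, Algebra.Extension.Cotangent.mk x = Algebra.Extension.Cotangent.mk y → f x = f y := fun x y h => by
    have h1 := hsq (x - y) (by rw [map_sub, h, sub_self])
    have h2 := hfadd (x - y) y
    rw [sub_add_cancel, h1, zero_add] at h2
    exact h2
  refine ⟨θ, { toFun := fun c => f (g c), map_add' := fun a b => ?_, map_smul' := fun b c => ?_ }, hθ, fun x => ?_⟩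
  · rw [← hfadd]
    exact hwd _ _ (by rw [hg, map_add, hg, hg])
  · obtain ⟨r, rfl⟩ := P.toExtension.algebraMap_surjective b
    rw [RingHom.id_apply, ← hfsmul]
    exact hwd _ _ (by rw [hg, map_smul, hg, IsScalarTower.algebraMap_smul])
  · show θ x = X.incl (f (g _))
    rw [hwd (g (Algebra.Extension.Cotangent.mk x)) x (hg _), hf]

theorem nonempty_equiv_extOf {θ : P.toExtension.Ring →ₐ[A] X.E} {φ : P.toExtension.Cotangent →ₗ[B] L} (h : Lifts θ φ) :
    Nonempty ((extOf P φ).Equiv X) := by
  let Θ : Pre P L →ₐ[A] X.E :=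
    { toFun := fun x => θ (preR P L x) + X.incl (preL P L x)
      map_one' := by rw [preR_one, preL_one, map_one, map_zero, add_zero]
      map_zero' := by rw [preR_zero, preL_zero, map_zero, map_zero, add_zero]
      map_add' := fun x y => by rw [preR_add, preL_add, map_add, map_add]; abel
      map_mul' := fun x y => by
        rw [preR_mul, preL_mul, map_mul, map_add, ← h.1, ← h.1, ← X.isExtension.mul_incl, ← X.isExtension.mul_incl]
        linear_combination -(incl_mul_incl (X := X) (preL P L x) (preL P L y))
      commutes' := fun a => by rw [preR_algebraMap, preL_algebraMap, map_zero, add_zero, AlgHom.commutes] }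
  have hle : ∀ x ∈ gKer P φ, Θ x = 0 := fun x hx => by
    obtain ⟨hk, he⟩ := mem_gKer_iff.mp hx
    show θ (preR P L x) + X.incl (preL P L x) = 0
    rw [he, map_neg, ← h.2 ⟨_, hk⟩, add_neg_cancel]
  let Φ : (Pre P L ⧸ gKer P φ) →ₐ[A] X.E := Ideal.Quotient.liftₐ (gKer P φ) Θ hle
  have hbij : Function.Bijective Φ := by
    constructor
    · refine (injective_iff_map_eq_zero _).mpr fun x hx => ?_
      obtain ⟨x, rfl⟩ := Ideal.Quotient.mk_surjective x
      have hx' : θ (preR P L x) + X.incl (preL P L x) = 0 := hx
      have hk : preR P L x ∈ P.toExtension.ker := by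
        have h1 := congrArg X.proj hx'
        rw [map_add, map_zero, h.1, (X.isExtension.exact _).mpr ⟨_, rfl⟩, add_zero] at h1
        exact h1
      rw [Ideal.Quotient.eq_zero_iff_mem, mem_gKer_iff]
      refine ⟨hk, X.isExtension.incl_injective ?_⟩
      rw [map_neg, ← h.2 ⟨_, hk⟩, eq_neg_iff_add_eq_zero, add_comm]
      exact hx'
    · intro e
      obtain ⟨r, hr⟩ := P.toExtension.algebraMap_surjective (X.proj e)
      obtain ⟨l, hl⟩ := (X.isExtension.exact (e - θ r)).mp (by rw [map_sub, h.1, hr, sub_self])
      refine ⟨Ideal.Quotient.mk _ (pre P L r l), ?_⟩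
      show θ (preR P L (pre P L r l)) + X.incl (preL P L (pre P L r l)) = e
      rw [preR_pre, preL_pre, hl, add_sub_cancel]
  refine ⟨{ toAlgEquiv := AlgEquiv.ofBijective Φ hbij, proj_apply := fun x => ?_, apply_incl := fun z => ?_ }⟩
  · obtain ⟨x, rfl⟩ := Ideal.Quotient.mk_surjective (I := gKer P φ) x
    show X.proj (θ (preR P L x) + X.incl (preL P L x)) = algebraMap P.toExtension.Ring B (preR P L x)
    rw [map_add, h.1, (X.isExtension.exact _).mpr ⟨_, rfl⟩, add_zero]
  · show θ (preR P L (pre P L 0 z)) + X.incl (preL P L (pre P L 0 z)) = X.incl z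
    rw [preR_pre, preL_pre, map_zero, zero_add]

theorem lifts_extOf (φ : P.toExtension.Cotangent →ₗ[B] L) :
    ∃ θ : P.toExtension.Ring →ₐ[A] (extOf P φ).E, Lifts θ φ := by
  refine ⟨{ toFun := fun r => Ideal.Quotient.mk (gKer P φ) (pre P L r 0)
            map_one' := ?_, map_zero' := ?_, map_add' := ?_, map_mul' := ?_, commutes' := ?_ }, fun r => ?_, fun x => ?_⟩
  · rw [show pre P L 1 0 = 1 from pre_ext (by rw [preR_pre]; rfl) (by rw [preL_pre]; rfl)]
    exact map_one _
  · intro a b
    rw [show pre P L (a * b) 0 = pre P L a 0 * pre P L b 0 from pre_ext (by rw [preR_mul, preR_pre, preR_pre, preR_pre])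
      (by rw [preL_mul, preL_pre, preL_pre, preL_pre, smul_zero, smul_zero, add_zero])]
    exact map_mul _ _ _
  · rw [show pre P L 0 0 = 0 from pre_ext (by rw [preR_pre]; rfl) (by rw [preL_pre]; rfl)]
    exact map_zero _
  · intro a b
    rw [show pre P L (a + b) 0 = pre P L a 0 + pre P L b 0 from pre_ext (by rw [preR_add, preR_pre, preR_pre, preR_pre])
      (by rw [preL_add, preL_pre, preL_pre, preL_pre, add_zero])]
    exact map_add _ _ _
  · intro a
    rw [show pre P L (algebraMap A P.toExtension.Ring a) 0 = algebraMap A (Pre P L) a from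
      pre_ext (by rw [preR_pre, preR_algebraMap]) (by rw [preL_pre, preL_algebraMap])]
    rfl
  · exact congrArg (algebraMap P.toExtension.Ring B) (preR_pre r 0)
  · refine Ideal.Quotient.eq.mpr (mem_gKer_iff.mpr ?_)
    have hR : preR P L (pre P L (x : P.toExtension.Ring) 0 - pre P L 0 (φ (Algebra.Extension.Cotangent.mk x))) = x := by
      show preR P L (pre P L _ 0) - preR P L (pre P L 0 _) = _
      rw [preR_pre, preR_pre, sub_zero]
    refine ⟨by rw [hR]; exact x.2, ?_⟩
    rw [show (⟨preR P L (pre P L (x : P.toExtension.Ring) 0 - pre P L 0 (φ (Algebra.Extension.Cotangent.mk x))), _⟩ :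
      P.toExtension.ker) = x from Subtype.ext hR]
    show preL P L (pre P L _ 0) - preL P L (pre P L 0 _) = _
    rw [preL_pre, preL_pre, zero_sub]

/-- two lifts differ by a derivation -/
theorem lift_sub_eq {θ θ' : P.toExtension.Ring →ₐ[A] X.E}
    (hθ : ∀ r, X.proj (θ r) = algebraMap P.toExtension.Ring B r)
    (hθ' : ∀ r, X.proj (θ' r) = algebraMap P.toExtension.Ring B r) (ψ : L0 P →ₗ[B] L)
    (hX : ∀ i : ι, θ' (MvPolynomial.X i) - θ (MvPolynomial.X i) = X.incl (ψ (P.cotangentSpaceBasis i)))
    (r : P.toExtension.Ring) :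
    θ' r - θ r = X.incl (ψ ((1 : B) ⊗ₜ KaehlerDifferential.D A P.toExtension.Ring r)) := by
  induction r using MvPolynomial.induction_on with
  | C a =>
    rw [show (MvPolynomial.C a : MvPolynomial ι A) = algebraMap A P.toExtension.Ring a from rfl, AlgHom.commutes,
      AlgHom.commutes, sub_self, Derivation.map_algebraMap, tmul_zero, map_zero, map_zero]
  | add p q hp hq =>
    let p' : P.toExtension.Ring := p
    let q' : P.toExtension.Ring := q
    show θ' (p' + q') - θ (p' + q') = X.incl (ψ ((1 : B) ⊗ₜ KaehlerDifferential.D A P.toExtension.Ring (p' + q')))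
    rw [map_add θ', map_add θ, Derivation.map_add, tmul_add, map_add, map_add, ← hp, ← hq]
    abel
  | mul_X p i hp =>
    let p' : P.toExtension.Ring := p
    let x' : P.toExtension.Ring := MvPolynomial.X i
    show θ' (p' * x') - θ (p' * x') = X.incl (ψ ((1 : B) ⊗ₜ KaehlerDifferential.D A P.toExtension.Ring (p' * x')))
    have hp' : θ' p' - θ p' = X.incl (ψ ((1 : B) ⊗ₜ KaehlerDifferential.D A P.toExtension.Ring p')) := hp
    have hx' : θ' x' - θ x' = X.incl (ψ ((1 : B) ⊗ₜ KaehlerDifferential.D A P.toExtension.Ring x')) := by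
      rw [hX, Algebra.Generators.cotangentSpaceBasis_apply]
      rfl
    have e : ∀ (r : P.toExtension.Ring) (y : P.toExtension.Ring),
        ((1 : B) ⊗ₜ (r • KaehlerDifferential.D A P.toExtension.Ring y) : L0 P) =
          algebraMap P.toExtension.Ring B r • ((1 : B) ⊗ₜ KaehlerDifferential.D A P.toExtension.Ring y) := fun r y => by
      rw [← smul_tmul, Algebra.smul_def, mul_one, smul_tmul', smul_eq_mul, mul_one]
    rw [Derivation.leibniz, tmul_add, e, e, map_add, map_smul, map_smul, map_add, ← hθ, ← hθ,
      ← X.isExtension.mul_incl, ← X.isExtension.mul_incl, map_mul, map_mul]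
    have hzero : (θ' x' - θ x') * (θ' p' - θ p') = 0 := by rw [hp', hx', incl_mul_incl]
    linear_combination (θ p') * hx' + (θ x') * hp' + hzero

theorem lifts_sub {θ θ' : P.toExtension.Ring →ₐ[A] X.E} {φ φ' : P.toExtension.Cotangent →ₗ[B] L}
    (h : Lifts θ φ) (h' : Lifts θ' φ') :
    ∃ ψ : L0 P →ₗ[B] L, φ' - φ = ψ ∘ₗ P.toExtension.cotangentComplex := by
  have hd : ∀ i : ι, ∃ l, X.incl l = θ' (MvPolynomial.X i) - θ (MvPolynomial.X i) := fun i =>
    (X.isExtension.exact _).mp (by rw [map_sub, h.1, h'.1, sub_self])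
  choose d hd using hd
  let ψ : L0 P →ₗ[B] L := P.cotangentSpaceBasis.constr B d
  have key := lift_sub_eq h.1 h'.1 ψ (fun i => by rw [Module.Basis.constr_basis, hd])
  refine ⟨ψ, LinearMap.ext fun c => X.isExtension.incl_injective ?_⟩
  obtain ⟨x, rfl⟩ := Algebra.Extension.Cotangent.mk_surjective c
  rw [LinearMap.sub_apply, map_sub, ← h.2, ← h'.2, key, LinearMap.comp_apply, Algebra.Extension.cotangentComplex_mk]

theorem lifts_add {θ : P.toExtension.Ring →ₐ[A] X.E} {φ φ' : P.toExtension.Cotangent →ₗ[B] L}
    (h : Lifts θ φ) {ψ : L0 P →ₗ[B] L} (hψ : φ' - φ = ψ ∘ₗ P.toExtension.cotangentComplex) :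
    ∃ θ' : P.toExtension.Ring →ₐ[A] X.E, Lifts θ' φ' := by
  let v : ι → X.E := fun i => θ (MvPolynomial.X i) + X.incl (ψ (P.cotangentSpaceBasis i))
  let θ₀ : MvPolynomial ι A →ₐ[A] X.E := MvPolynomial.aeval v
  let θ' : P.toExtension.Ring →ₐ[A] X.E :=
    { toRingHom := θ₀.toRingHom, commutes' := fun a => θ₀.commutes a }
  have hv : ∀ i, θ' (MvPolynomial.X i) = v i := fun i => MvPolynomial.aeval_X v i
  have hproj : ∀ r, X.proj (θ' r) = algebraMap P.toExtension.Ring B r := fun r => by
    have : X.proj.comp θ₀ = MvPolynomial.aeval P.val := MvPolynomial.algHom_ext fun i => by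
      show X.proj (MvPolynomial.aeval v (MvPolynomial.X i)) = _
      rw [MvPolynomial.aeval_X, MvPolynomial.aeval_X, map_add, (X.isExtension.exact _).mpr ⟨_, rfl⟩, add_zero,
        h.1, algebraMap_toExtension, MvPolynomial.aeval_X]
    rw [algebraMap_toExtension]
    exact AlgHom.congr_fun this r
  have hk : ∀ x : P.toExtension.ker, ∃ l, X.incl l = θ' x := fun x =>
    (X.isExtension.exact _).mp (by rw [hproj]; exact x.2)
  choose f hf using hk
  choose g hg using fun c : P.toExtension.Cotangent => Algebra.Extension.Cotangent.mk_surjective c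
  refine ⟨θ', hproj, fun x => ?_⟩
  have key := lift_sub_eq h.1 hproj ψ (fun i => by rw [hv, add_sub_cancel_left])
  have h1 := key (x : P.toExtension.Ring)
  rw [h.2, sub_eq_iff_eq_add, ← map_add] at h1
  rw [h1]
  congr 1
  have h2 := LinearMap.congr_fun hψ (Algebra.Extension.Cotangent.mk x)
  rw [LinearMap.sub_apply, LinearMap.comp_apply, Algebra.Extension.cotangentComplex_mk, sub_eq_iff_eq_add] at h2
  exact h2.symm

end Groth.Agent.CotTLib
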