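import Groth.Agent.CotTLib.Smooth
import Groth.Agent.RegComplLib.Basic
import Groth.Agent.S2116

/-! Regular algebras of finite type over an algebraically closed field have `T¹ = T² = 0`. -/

set_option autoImplicit false

noncomputable section

open TensorProduct

namespace Groth.Agent.CotTLib

open CotT

universe u

theorem isRegularLocalRing_quot_map {R B : Type u} [CommRing R] [CommRing B] (π : R →+* B)
    (hπ : Function.Surjective π) (p : Ideal R) [p.IsPrime] (p' : Ideal B) [p'.IsPrime] (hp : p = p'.comap π)
    [IsRegularLocalRing (Localization.AtPrime p')] :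
    IsRegularLocalRing (Localization.AtPrime p ⧸ (RingHom.ker π).map (algebraMap R (Localization.AtPrime p))) := by
  let φ := Localization.localRingHom p p' π hp
  have hφ : Function.Surjective φ := by
    subst hp
    exact RingHom.surjective_localRingHom_of_surjective π hπ p'
  have hker : RingHom.ker φ = (RingHom.ker π).map (algebraMap R (Localization.AtPrime p)) := by
    refine le_antisymm (fun x hx => ?_) (Ideal.map_le_iff_le_comap.mpr fun r hr => ?_)
    · obtain ⟨r, s, rfl⟩ := IsLocalization.exists_mk'_eq p.primeCompl x
      rw [RingHom.mem_ker, Localization.localRingHom_mk', IsLocalization.mk'_eq_zero_iff] at hx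
      obtain ⟨⟨t, ht⟩, htr⟩ := hx
      obtain ⟨t, rfl⟩ := hπ t
      have ht' : t ∈ p.primeCompl := fun h => ht (by rw [hp] at h; exact h)
      have h1 : t * r ∈ RingHom.ker π := by rw [RingHom.mem_ker, map_mul]; exact htr
      have h2 : IsLocalization.mk' (Localization.AtPrime p) r s =
          IsLocalization.mk' (Localization.AtPrime p) (t * r) (⟨t, ht'⟩ * s) := by
        rw [IsLocalization.mk'_mul, IsLocalization.mk'_self, one_mul]
      rw [h2, IsLocalization.mk'_eq_mul_mk'_one]
      exact Ideal.mul_mem_right _ _ (Ideal.mem_map_of_mem _ h1)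
    · rw [Ideal.mem_comap, RingHom.mem_ker, Localization.localRingHom_to_map, RingHom.mem_ker.mp hr, map_zero]
  exact IsRegularLocalRing.of_ringEquiv
    ((Ideal.quotEquivOfEq hker.symm).trans (RingHom.quotientKerEquivOfSurjective hφ)).symm

theorem formallySmooth_of_regular {k B : Type u} [Field k] [IsAlgClosed k] [CommRing B] [Algebra k B]
    [Algebra.FiniteType k B] (h : ∀ (m : Ideal B) [m.IsMaximal], IsRegularLocalRing (Localization.AtPrime m)) :
    Algebra.FormallySmooth k B := by
  haveI : Algebra.FinitePresentation k B := Algebra.FinitePresentation.of_finiteType.1 inferInstance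
  rw [← Algebra.smoothLocus_eq_univ_iff]
  refine Set.eq_univ_of_forall fun q => ?_
  obtain ⟨m, hm, hle⟩ := Ideal.exists_le_maximal q.asIdeal q.isPrime.ne_top
  haveI := hm
  have h1 : (⟨m, hm.isPrime⟩ : PrimeSpectrum B) ∈ Algebra.smoothLocus k B :=
    (Groth.Agent.S2116.result m).mp (h m)
  exact ((PrimeSpectrum.le_iff_specializes q ⟨m, hm.isPrime⟩).mp hle).mem_open Algebra.isOpen_smoothLocus h1

theorem regular_of_formallySmooth {k B : Type u} [Field k] [IsAlgClosed k] [CommRing B] [Algebra k B]
    [Algebra.FiniteType k B] [Algebra.FormallySmooth k B] (p : Ideal B) [p.IsPrime] :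
    IsRegularLocalRing (Localization.AtPrime p) := by
  haveI : IsNoetherianRing B := Algebra.FiniteType.isNoetherianRing k B
  haveI : IsRegularRing B := RegComplLib.isRegularRing_of_isMaximal B fun M hM => (Groth.Agent.S2116.result (k := k) M).mpr
    (inferInstanceAs (Algebra.FormallySmooth k (Localization.AtPrime M)))
  infer_instance

theorem subsingleton_T1_T2_of_regular {k B : Type u} [Field k] [IsAlgClosed k] [CommRing B] [Algebra k B]
    [Algebra.FiniteType k B] (h : ∀ (m : Ideal B) [m.IsMaximal], IsRegularLocalRing (Localization.AtPrime m))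
    (M : Type u) [AddCommGroup M] [Module B M] :
    Subsingleton (T1 (canon k B) M) ∧ Subsingleton (T2 (canon k B) M) := by
  haveI := formallySmooth_of_regular (k := k) h
  haveI : Algebra.FinitePresentation k B := Algebra.FinitePresentation.of_finiteType.1 inferInstance
  refine ⟨subsingleton_T1_of_formallySmooth _ M, ?_⟩
  let P := Algebra.Presentation.ofFinitePresentation k B
  haveI : IsRegularRing P.toExtension.Ring :=
    inferInstanceAs (IsRegularRing (MvPolynomial (Fin (Algebra.Presentation.ofFinitePresentationVars k B)) k))
  have hker : RingHom.ker (algebraMap P.toExtension.Ring B) = Ideal.span (Set.range (rel P)) :=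
    P.span_range_relation_eq_ker.symm
  have hinj : Function.Injective (d2 P) := d2_injective P fun q hq hI => by
    rw [trivRel_eq]
    refine mem_trivR_of_locally (rel P) (fun p hp => ?_) hq fun s => hker ▸ hI s
    by_cases hle : RingHom.ker (algebraMap P.toExtension.Ring B) ≤ p
    · have hmax : (p.map (algebraMap P.toExtension.Ring B)).IsMaximal :=
        (Ideal.map_eq_top_or_isMaximal_of_surjective _ (surjective_algebraMap P) hp).resolve_left fun htop => hp.ne_top (by
          rw [← sup_eq_left.mpr hle, RingHom.ker_eq_comap_bot, ← Ideal.comap_map_of_surjective _ (surjective_algebraMap P), htop,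
            Ideal.comap_top])
      haveI := h (p.map (algebraMap P.toExtension.Ring B))
      haveI := isRegularLocalRing_quot_map (algebraMap P.toExtension.Ring B) (surjective_algebraMap P) p
        (p.map (algebraMap P.toExtension.Ring B)) (by
          rw [Ideal.comap_map_of_surjective _ (surjective_algebraMap P), ← RingHom.ker_eq_comap_bot, sup_eq_left.mpr hle])
      rw [← hker]
      exact exists_regFam_of_quot_regular _
    · obtain ⟨r, hr, hrp⟩ := SetLike.not_le_iff_exists.mp hle
      refine ⟨1, fun _ => 1, fun i x hx => by simpa using hx, ?_⟩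
      rw [Set.range_const, Ideal.span_singleton_one, ← hker, eq_comm, Ideal.eq_top_iff_one]
      obtain ⟨u, hu⟩ := IsLocalization.map_units (Localization.AtPrime p) (⟨r, hrp⟩ : p.primeCompl)
      have := Ideal.mem_map_of_mem (algebraMap P.toExtension.Ring (Localization.AtPrime p)) hr
      rw [← hu] at this
      simpa using Ideal.mul_mem_left _ (↑u⁻¹ : Localization.AtPrime p) this
  haveI := subsingleton_T2_of_injective P hinj M
  exact subsingleton_T2_of_presentation M P _

end Groth.Agent.CotTLib
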