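import Groth.Agent.CotTLib.Basic

/-! Two morphisms of presentations over the same square induce the same maps on `T⁰`, `T¹`, `T²`. -/

set_option autoImplicit false

noncomputable section

open TensorProduct

namespace Groth.Agent.CotTLib

open CotT

universe u v w t m u' v' w' t' n

section Twisted

variable {R : Type u} [CommRing R] {N : Type v} [AddCommGroup N] [Module R N]
variable (j : N →ₗ[R] R) (hj : ∀ a b : N, j a • b = j b • a)

/-- pairs of elements of `R` with a chosen element of `N` over their difference -/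
@[ext] structure Tw (j : N →ₗ[R] R) (hj : ∀ a b : N, j a • b = j b • a) where
  a : R
  b : R
  n : N
  h : j n = a - b

variable {j hj}

instance : Zero (Tw j hj) := ⟨⟨0, 0, 0, by simp⟩⟩
instance : One (Tw j hj) := ⟨⟨1, 1, 0, by simp⟩⟩
instance : Add (Tw j hj) := ⟨fun x y => ⟨x.a + y.a, x.b + y.b, x.n + y.n, by rw [map_add, x.h, y.h]; ring⟩⟩
instance : Neg (Tw j hj) := ⟨fun x => ⟨-x.a, -x.b, -x.n, by rw [map_neg, x.h]; ring⟩⟩
instance : Mul (Tw j hj) := ⟨fun x y => ⟨x.a * y.a, x.b * y.b, x.a • y.n + y.b • x.n, by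
  rw [map_add, map_smul, map_smul, x.h, y.h, smul_eq_mul, smul_eq_mul]; ring⟩⟩

theorem Tw.mul_def (x y : Tw j hj) : (x * y).n = x.a • y.n + y.b • x.n := rfl

instance : CommRing (Tw j hj) :=
  CommRing.ofMinimalAxioms
    (fun x y z => Tw.ext (add_assoc x.a y.a z.a) (add_assoc x.b y.b z.b) (add_assoc x.n y.n z.n))
    (fun x => Tw.ext (zero_add x.a) (zero_add x.b) (zero_add x.n))
    (fun x => Tw.ext (neg_add_cancel x.a) (neg_add_cancel x.b) (neg_add_cancel x.n))
    (fun x y z => Tw.ext (mul_assoc x.a y.a z.a) (mul_assoc x.b y.b z.b) (by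
      show (x.a * y.a) • z.n + z.b • (x.a • y.n + y.b • x.n) = x.a • (y.a • z.n + z.b • y.n) + (y.b * z.b) • x.n
      module))
    (fun x y => Tw.ext (mul_comm x.a y.a) (mul_comm x.b y.b) (by
      show x.a • y.n + y.b • x.n = y.a • x.n + x.b • y.n
      have h := hj x.n y.n
      rw [x.h, y.h, sub_smul, sub_smul] at h
      linear_combination (norm := abel_nf) h))
    (fun x => Tw.ext (one_mul x.a) (one_mul x.b) (by
      show (1 : R) • x.n + x.b • (0 : N) = x.n
      simp))
    (fun x y z => Tw.ext (mul_add x.a y.a z.a) (mul_add x.b y.b z.b) (by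
      show x.a • (y.n + z.n) + (y.b + z.b) • x.n = (x.a • y.n + y.b • x.n) + (x.a • z.n + z.b • x.n)
      module))

theorem exists_twisted (hj : ∀ a b : N, j a • b = j b • a) {A : Type*} [CommRing A] [Algebra A R]
    {ι : Type*} (f g : MvPolynomial ι A →ₐ[A] R) (d : ι → N)
    (hd : ∀ i, j (d i) = f (MvPolynomial.X i) - g (MvPolynomial.X i)) :
    ∃ D : MvPolynomial ι A →+ N, (∀ Φ, j (D Φ) = f Φ - g Φ) ∧
      ∀ Φ Ψ, D (Φ * Ψ) = f Φ • D Ψ + g Ψ • D Φ := by
  let c : A →+* Tw j hj :=
    { toFun := fun a => ⟨algebraMap A R a, algebraMap A R a, 0, by simp⟩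
      map_one' := Tw.ext (map_one _) (map_one _) rfl
      map_mul' := fun a a' => Tw.ext (map_mul _ a a') (map_mul _ a a') (by simp [Tw.mul_def])
      map_zero' := Tw.ext (map_zero _) (map_zero _) rfl
      map_add' := fun a a' => Tw.ext (map_add _ a a') (map_add _ a a') (zero_add (0 : N)).symm }
  let E : MvPolynomial ι A →+* Tw j hj := MvPolynomial.eval₂Hom c fun i => ⟨_, _, d i, hd i⟩
  let pa : Tw j hj →+* R := ⟨⟨⟨Tw.a, rfl⟩, fun _ _ => rfl⟩, rfl, fun _ _ => rfl⟩
  let pb : Tw j hj →+* R := ⟨⟨⟨Tw.b, rfl⟩, fun _ _ => rfl⟩, rfl, fun _ _ => rfl⟩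
  have ha : pa.comp E = f.toRingHom := by
    refine MvPolynomial.ringHom_ext (fun r => ?_) (fun i => ?_)
    · simp only [E, RingHom.comp_apply, MvPolynomial.eval₂Hom_C]; exact (f.commutes r).symm
    · simp only [E, RingHom.comp_apply, MvPolynomial.eval₂Hom_X']; rfl
  have hb : pb.comp E = g.toRingHom := by
    refine MvPolynomial.ringHom_ext (fun r => ?_) (fun i => ?_)
    · simp only [E, RingHom.comp_apply, MvPolynomial.eval₂Hom_C]; exact (g.commutes r).symm
    · simp only [E, RingHom.comp_apply, MvPolynomial.eval₂Hom_X']; rfl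
  have ha' : ∀ Φ, (E Φ).a = f Φ := fun Φ => RingHom.congr_fun ha Φ
  have hb' : ∀ Φ, (E Φ).b = g Φ := fun Φ => RingHom.congr_fun hb Φ
  refine ⟨AddMonoidHom.mk' (fun Φ => (E Φ).n) (fun x y => by simp only [map_add]; rfl), fun Φ => ?_, fun Φ Ψ => ?_⟩
  · show j (E Φ).n = _
    rw [(E Φ).h, ha', hb']
  · show (E (Φ * Ψ)).n = f Φ • (E Ψ).n + g Ψ • (E Φ).n
    rw [map_mul, Tw.mul_def, ha', hb']

end Twisted

section Hom

variable {A : Type u} {B : Type v} {ι : Type w} {σ : Type t}
variable {A' : Type u'} {B' : Type v'} {ι' : Type w'} {σ' : Type t'}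
variable [CommRing A] [CommRing B] [Algebra A B] [CommRing A'] [CommRing B'] [Algebra A' B']
variable [Algebra A A'] [Algebra B B'] [Algebra A B'] [IsScalarTower A A' B'] [IsScalarTower A B B']
variable {P : Algebra.Presentation A B ι σ} {P' : Algebra.Presentation A' B' ι' σ'}
variable (f g : PresHom P P')
variable (M : Type m) [AddCommGroup M] [Module B' M] [Module B M] [IsScalarTower B B' M]

theorem T0pull_eq : f.T0pull M = g.T0pull M := by
  refine LinearMap.ext fun ψ => Subtype.ext ?_
  refine P.cotangentSpaceBasis.ext fun i => ?_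
  show (ψ : L0 P' →ₗ[B'] M) (f.L0map _) = (ψ : L0 P' →ₗ[B'] M) (g.L0map _)
  rw [← sub_eq_zero, ← map_sub, PresHom.L0map_apply, PresHom.L0map_apply, ← LinearMap.sub_apply,
    Algebra.Extension.CotangentSpace.map_sub_map]
  have hψ := LinearMap.mem_ker.mp ((ker_d1Star P' M).le ψ.2)
  exact LinearMap.congr_fun hψ _

theorem T1pull_eq : f.T1pull M = g.T1pull M := by
  refine LinearMap.ext fun x => ?_
  obtain ⟨φ, rfl⟩ := Submodule.Quotient.mk_surjective _ x
  show Submodule.Quotient.mk (f.cocycles1Pull M φ) = Submodule.Quotient.mk (g.cocycles1Pull M φ)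
  rw [Submodule.Quotient.eq]
  obtain ⟨χ, hχ⟩ := exists_of_cocycle P' M (φ := φ.1) φ.2
  refine ⟨PresHom.linOfSemilinear M
    { toFun := fun y => χ (f.hom.toExtensionHom.sub g.hom.toExtensionHom y)
      map_add' := fun a b => by rw [map_add, map_add]
      map_smul' := fun b y => by
        rw [map_smul, ← IsScalarTower.algebraMap_smul B' b, map_smul] }, ?_⟩
  refine LinearMap.ext fun z => ?_
  show χ (f.hom.toExtensionHom.sub g.hom.toExtensionHom (P.toExtension.cotangentComplex (toCot P z))) =
    (φ : L1 P' →ₗ[B'] M) (f.L1map z) - (φ : L1 P' →ₗ[B'] M) (g.L1map z)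
  have h1 := LinearMap.congr_fun (Algebra.Extension.Cotangent.map_sub_map f.hom.toExtensionHom g.hom.toExtensionHom) (toCot P z)
  rw [LinearMap.comp_apply, LinearMap.sub_apply] at h1
  rw [← h1, map_sub, ← hχ, LinearMap.comp_apply, LinearMap.comp_apply, PresHom.toCot_L1map,
    PresHom.toCot_L1map]
  rfl

/-- the class in `L2` of a relation -/
def relClass (P : Algebra.Presentation A B ι σ) : relKer P →+ L2 P where
  toFun q := Submodule.Quotient.mk ((1 : B) ⊗ₜ q)
  map_zero' := by rw [tmul_zero]; rfl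
  map_add' x y := by rw [tmul_add]; rfl

theorem relClass_smul (r : P.toExtension.Ring) (q : relKer P) :
    relClass P (r • q) = algebraMap P.toExtension.Ring B r • relClass P q := by
  show Submodule.Quotient.mk ((1 : B) ⊗ₜ (r • q)) = _
  rw [← smul_tmul, Algebra.smul_def, mul_one]
  show _ = Submodule.Quotient.mk (algebraMap P.toExtension.Ring B r • ((1 : B) ⊗ₜ q))
  rw [smul_tmul', smul_eq_mul, mul_one]

theorem relClass_eq_zero (q : relKer P) (h : (q : relMod P) ∈ trivRel P) : relClass P q = 0 :=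
  (Submodule.Quotient.mk_eq_zero _).mpr ⟨1 ⊗ₜ ⟨q, h⟩, rfl⟩

theorem relClass_eq_of (x y : relKer P) (h : (x : relMod P) - y ∈ trivRel P) :
    relClass P x = relClass P y := by
  have e : (⟨(x : relMod P) - y, (relKer P).sub_mem x.2 y.2⟩ : relKer P) + y = x :=
    Subtype.ext (sub_add_cancel _ _)
  conv_lhs => rw [← e, map_add, relClass_eq_zero _ h, zero_add]

theorem L2map_relClass (q : relKer P) : f.L2map (relClass P q) = relClass P' (f.relKerMap q) := by
  show f.L2map (Submodule.Quotient.mk ((1 : B) ⊗ₜ q)) = Submodule.Quotient.mk ((1 : B') ⊗ₜ f.relKerMap q)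
  rw [PresHom.L2map_mk_tmul, map_one]

theorem exists_twisted_relations :
    ∃ w : σ → relKer P', ∀ q : relKer P,
      relClass P' (f.relKerMap q) - relClass P' (g.relKerMap q) =
        (q : relMod P).sum fun s r => algebraMap B B' (algebraMap P.toExtension.Ring B r) • relClass P' (w s) := by
  classical
  let N := relMod P' ⧸ trivRel P'
  let jb : N →ₗ[P'.toExtension.Ring] P'.toExtension.Ring :=
    (trivRel P').liftQ (jmap P') (trivRel_le_relKer P')
  have hj : ∀ a b : N, jb a • b = jb b • a := by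
    intro a b
    obtain ⟨x, rfl⟩ := Submodule.Quotient.mk_surjective _ a
    obtain ⟨y, rfl⟩ := Submodule.Quotient.mk_surjective _ b
    show Submodule.Quotient.mk (jmap P' x • y) = Submodule.Quotient.mk (jmap P' y • x)
    rw [Submodule.Quotient.eq]
    exact Submodule.subset_span ⟨x, y, rfl⟩
  have hlift : ∀ i, ∃ d : N, jb d = f.hom.toAlgHom (MvPolynomial.X i) - g.hom.toAlgHom (MvPolynomial.X i) := by
    intro i
    have h1 : f.ringHom (MvPolynomial.X i) - g.ringHom (MvPolynomial.X i) ∈ LinearMap.range (jmap P') := by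
      rw [range_jmap]
      show algebraMap P'.toExtension.Ring B' _ = 0
      rw [map_sub, f.algebraMap_ringHom, g.algebraMap_ringHom, sub_self]
    obtain ⟨x, hx⟩ := h1
    exact ⟨Submodule.Quotient.mk x, hx⟩
  choose d hd using hlift
  obtain ⟨D₀, hD₀, hDmul₀⟩ := @exists_twisted _ _ _ _ _ jb hj A _ (inferInstanceAs (Algebra A (MvPolynomial ι' A'))) ι f.hom.toAlgHom g.hom.toAlgHom d hd
  let D : P.toExtension.Ring →+ N := D₀
  have hD : ∀ Φ : P.toExtension.Ring, jb (D Φ) = f.ringHom Φ - g.ringHom Φ := hD₀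
  have hDmul : ∀ Φ Ψ : P.toExtension.Ring, D (Φ * Ψ) = f.ringHom Φ • D Ψ + g.ringHom Ψ • D Φ := hDmul₀
  choose δ hδ using fun s => Submodule.Quotient.mk_surjective (trivRel P') (D (rel P s))
  have hw : ∀ s, f.relVal s - g.relVal s - δ s ∈ relKer P' := by
    intro s
    show jmap P' _ = 0
    rw [map_sub, map_sub, f.jmap_relVal, g.jmap_relVal]
    have h2 := hD (rel P s)
    rw [← hδ] at h2
    rw [show jmap P' (δ s) = _ from h2]
    exact sub_self _
  refine ⟨fun s => ⟨_, hw s⟩, fun q => ?_⟩
  have key : ∀ x : relMod P,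
      (Submodule.Quotient.mk (f.relModMap x - g.relModMap x) : N) =
        Submodule.Quotient.mk (x.sum fun s r => f.ringHom r • (f.relVal s - g.relVal s - δ s)) + D (jmap P x) := by
    intro x
    induction x using Finsupp.induction_linear with
    | zero => simp
    | add a b ha hb =>
      rw [map_add, map_add, map_add, map_add, add_sub_add_comm, Submodule.Quotient.mk_add, ha, hb,
        Finsupp.sum_add_index (fun _ _ => by rw [map_zero, zero_smul]) (fun _ _ _ _ => by rw [map_add, add_smul]),
        Submodule.Quotient.mk_add]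
      abel
    | single s r =>
      rw [Finsupp.sum_single_index (by rw [map_zero, zero_smul]), PresHom.relModMap_single, PresHom.relModMap_single,
        jmap_single, hDmul, ← hδ]
      have h3 : g.ringHom (rel P s) • D r = (f.ringHom r - g.ringHom r) • (Submodule.Quotient.mk (g.relVal s) : N) := by
        rw [show f.ringHom r - g.ringHom r = jb (D r) from (hD r).symm, hj, show jb (Submodule.Quotient.mk (g.relVal s)) =
          g.ringHom (rel P s) from g.jmap_relVal s]
      rw [h3]
      show _ = _ + (f.ringHom r • _ + _)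
      simp only [smul_sub, Submodule.Quotient.mk_sub, Submodule.Quotient.mk_smul, sub_smul]
      abel
  have h4 := key q
  rw [show jmap P (q : relMod P) = 0 from q.2, map_zero, add_zero, Submodule.Quotient.eq] at h4
  have h5 : relClass P' (f.relKerMap q) = relClass P' (g.relKerMap q +
      (q : relMod P).sum fun s r => f.ringHom r • (⟨_, hw s⟩ : relKer P')) := by
    refine relClass_eq_of _ _ ?_
    rw [sub_sub] at h4
    simpa [Finsupp.sum] using h4
  rw [map_add] at h5
  rw [h5, add_sub_cancel_left, map_finsuppSum]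
  refine Finsupp.sum_congr fun s _ => ?_
  rw [relClass_smul, f.algebraMap_ringHom]

theorem T2pull_eq : f.T2pull M = g.T2pull M := by
  classical
  refine LinearMap.ext fun x => ?_
  obtain ⟨φ, rfl⟩ := Submodule.Quotient.mk_surjective _ x
  show Submodule.Quotient.mk (f.pull2 M φ) = Submodule.Quotient.mk (g.pull2 M φ)
  rw [Submodule.Quotient.eq]
  obtain ⟨w, hw⟩ := exists_twisted_relations f g
  refine ⟨(L1basis P).constr B fun s => φ (relClass P' (w s)), ?_⟩
  refine LinearMap.ext fun z => ?_
  obtain ⟨q, rfl⟩ := exists_mk_eq P z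
  show ((L1basis P).constr B fun s => φ (relClass P' (w s))) (d2 P (Submodule.Quotient.mk (1 ⊗ₜ q))) =
    φ (f.L2map (relClass P q)) - φ (g.L2map (relClass P q))
  rw [L2map_relClass, L2map_relClass, ← map_sub, hw, d2_mk_tmul, map_finsuppSum]
  generalize (q : relMod P) = y
  induction y using Finsupp.induction_linear with
  | zero => simp
  | add a b ha hb =>
    rw [tmul_add, map_add, ha, hb, Finsupp.sum_add_index (fun _ _ => by simp) (fun _ _ _ _ => by
      simp only [map_add, add_smul])]
  | single s r =>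
    rw [Finsupp.sum_single_index (by simp), map_smul, IsScalarTower.algebraMap_smul,
      show ((1 : B) ⊗ₜ Finsupp.single s r : L1 P) = algebraMap P.toExtension.Ring B r • L1basis P s by
        rw [L1basis_apply, smul_tmul', smul_eq_mul, mul_one, ← mul_one (algebraMap _ B r), ← Algebra.smul_def,
          smul_tmul, Finsupp.smul_single, smul_eq_mul, mul_one],
      map_smul, Module.Basis.constr_basis]

end Hom

end Groth.Agent.CotTLib
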