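import Mathlib

/-! Nine-term sequence of three cochain complexes in degrees `0,1,2`, short exact in degrees `0,1`, left exact in degree `2`. -/

set_option autoImplicit false

noncomputable section

namespace Groth.Agent.CotTLib

open LinearMap

universe u v

variable {R : Type u} [CommRing R]
variable {X0 X1 X2 Y0 Y1 Y2 Z0 Z1 Z2 : Type*}
variable [AddCommGroup X0] [Module R X0] [AddCommGroup X1] [Module R X1] [AddCommGroup X2] [Module R X2]
variable [AddCommGroup Y0] [Module R Y0] [AddCommGroup Y1] [Module R Y1] [AddCommGroup Y2] [Module R Y2]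
variable [AddCommGroup Z0] [Module R Z0] [AddCommGroup Z1] [Module R Z1] [AddCommGroup Z2] [Module R Z2]

/-- three complexes and two maps between them -/
structure Seq3 (R : Type u) [CommRing R] (X0 X1 X2 Y0 Y1 Y2 Z0 Z1 Z2 : Type*)
    [AddCommGroup X0] [Module R X0] [AddCommGroup X1] [Module R X1] [AddCommGroup X2] [Module R X2]
    [AddCommGroup Y0] [Module R Y0] [AddCommGroup Y1] [Module R Y1] [AddCommGroup Y2] [Module R Y2]
    [AddCommGroup Z0] [Module R Z0] [AddCommGroup Z1] [Module R Z1] [AddCommGroup Z2] [Module R Z2] where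
  dX0 : X0 →ₗ[R] X1
  dX1 : X1 →ₗ[R] X2
  dY0 : Y0 →ₗ[R] Y1
  dY1 : Y1 →ₗ[R] Y2
  dZ0 : Z0 →ₗ[R] Z1
  dZ1 : Z1 →ₗ[R] Z2
  f0 : X0 →ₗ[R] Y0
  f1 : X1 →ₗ[R] Y1
  f2 : X2 →ₗ[R] Y2
  g0 : Y0 →ₗ[R] Z0
  g1 : Y1 →ₗ[R] Z1
  g2 : Y2 →ₗ[R] Z2
  dX : ∀ x, dX1 (dX0 x) = 0
  dY : ∀ y, dY1 (dY0 y) = 0
  dZ : ∀ z, dZ1 (dZ0 z) = 0
  cf0 : ∀ x, f1 (dX0 x) = dY0 (f0 x)
  cf1 : ∀ x, f2 (dX1 x) = dY1 (f1 x)
  cg0 : ∀ y, g1 (dY0 y) = dZ0 (g0 y)
  cg1 : ∀ y, g2 (dY1 y) = dZ1 (g1 y)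
  if0 : Function.Injective f0
  if1 : Function.Injective f1
  if2 : Function.Injective f2
  e0 : Function.Exact f0 g0
  e1 : Function.Exact f1 g1
  e2 : Function.Exact f2 g2
  sg0 : Function.Surjective g0
  sg1 : Function.Surjective g1

theorem Seq3.nine_term (S : Seq3 R X0 X1 X2 Y0 Y1 Y2 Z0 Z1 Z2)
    (a0 : ker S.dX0 →ₗ[R] ker S.dY0) (b0 : ker S.dY0 →ₗ[R] ker S.dZ0)
    (a1 : (ker S.dX1 ⧸ (range S.dX0).comap (ker S.dX1).subtype) →ₗ[R] (ker S.dY1 ⧸ (range S.dY0).comap (ker S.dY1).subtype))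
    (b1 : (ker S.dY1 ⧸ (range S.dY0).comap (ker S.dY1).subtype) →ₗ[R] (ker S.dZ1 ⧸ (range S.dZ0).comap (ker S.dZ1).subtype))
    (a2 : (X2 ⧸ range S.dX1) →ₗ[R] (Y2 ⧸ range S.dY1)) (b2 : (Y2 ⧸ range S.dY1) →ₗ[R] (Z2 ⧸ range S.dZ1))
    (ha0 : ∀ x, (a0 x : Y0) = S.f0 x) (hb0 : ∀ y, (b0 y : Z0) = S.g0 y)
    (ha1 : ∀ x : ker S.dX1, ∃ y : ker S.dY1, (y : Y1) = S.f1 x ∧ a1 (Submodule.Quotient.mk x) = Submodule.Quotient.mk y)
    (hb1 : ∀ y : ker S.dY1, ∃ z : ker S.dZ1, (z : Z1) = S.g1 y ∧ b1 (Submodule.Quotient.mk y) = Submodule.Quotient.mk z)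
    (ha2 : ∀ x, a2 (Submodule.Quotient.mk x) = Submodule.Quotient.mk (S.f2 x))
    (hb2 : ∀ y, b2 (Submodule.Quotient.mk y) = Submodule.Quotient.mk (S.g2 y)) :
    Function.Injective a0 ∧ Function.Exact a0 b0 ∧ Function.Exact a1 b1 ∧ Function.Exact a2 b2 ∧
      ∃ (δ₀ : ker S.dZ0 →ₗ[R] (ker S.dX1 ⧸ (range S.dX0).comap (ker S.dX1).subtype))
        (δ₁ : (ker S.dZ1 ⧸ (range S.dZ0).comap (ker S.dZ1).subtype) →ₗ[R] (X2 ⧸ range S.dX1)),
        Function.Exact b0 δ₀ ∧ Function.Exact δ₀ a1 ∧ Function.Exact b1 δ₁ ∧ Function.Exact δ₁ a2 := by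
  have hgf1 : ∀ x, S.g1 (S.f1 x) = 0 := S.e1.apply_apply_eq_zero
  have hgf2 : ∀ x, S.g2 (S.f2 x) = 0 := S.e2.apply_apply_eq_zero
  have hgf0 : ∀ x, S.g0 (S.f0 x) = 0 := S.e0.apply_apply_eq_zero
  refine ⟨fun x x' h => ?_, ?_, ?_, ?_, ?_⟩
  · refine Subtype.ext (S.if0 ?_)
    rw [← ha0, ← ha0, h]
  · intro y
    constructor
    · intro h
      obtain ⟨x, hx⟩ := (S.e0 (y : Y0)).mp (by rw [← hb0, h]; rfl)
      refine ⟨⟨x, S.if1 ?_⟩, Subtype.ext (by rw [ha0]; exact hx)⟩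
      rw [S.cf0, hx, map_zero]
      exact y.2
    · rintro ⟨x, rfl⟩
      exact Subtype.ext (by rw [hb0, ha0, hgf0]; rfl)
  · intro w
    obtain ⟨y, rfl⟩ := Submodule.Quotient.mk_surjective _ w
    constructor
    · intro h
      obtain ⟨z, hz, hbz⟩ := hb1 y
      rw [hbz, Submodule.Quotient.mk_eq_zero] at h
      obtain ⟨c, hc⟩ := h
      obtain ⟨d, rfl⟩ := S.sg0 c
      obtain ⟨x, hx⟩ := (S.e1 ((y : Y1) - S.dY0 d)).mp (by rw [map_sub, S.cg0, ← hz]; exact sub_eq_zero.mpr hc.symm)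
      have hxk : x ∈ ker S.dX1 := S.if2 (by rw [S.cf1, hx, map_sub, S.dY, mem_ker.mp y.2, sub_zero, map_zero])
      obtain ⟨y', hy', hay⟩ := ha1 ⟨x, hxk⟩
      refine ⟨Submodule.Quotient.mk ⟨x, hxk⟩, ?_⟩
      rw [hay, Submodule.Quotient.eq]
      refine ⟨-d, ?_⟩
      rw [map_neg, Submodule.subtype_apply, Submodule.coe_sub, hy', hx]
      abel
    · rintro ⟨v, hv⟩
      obtain ⟨x, rfl⟩ := Submodule.Quotient.mk_surjective _ v
      obtain ⟨y', hy', hay⟩ := ha1 x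
      obtain ⟨z, hz, hbz⟩ := hb1 y'
      rw [← hv, hay, hbz, Submodule.Quotient.mk_eq_zero]
      refine ⟨0, ?_⟩
      rw [map_zero, Submodule.subtype_apply, hz, hy', hgf1]
  · intro w
    obtain ⟨y, rfl⟩ := Submodule.Quotient.mk_surjective _ w
    constructor
    · intro h
      rw [hb2, Submodule.Quotient.mk_eq_zero] at h
      obtain ⟨c, hc⟩ := h
      obtain ⟨d, rfl⟩ := S.sg1 c
      obtain ⟨x, hx⟩ := (S.e2 (y - S.dY1 d)).mp (by rw [map_sub, S.cg1, hc, sub_self])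
      refine ⟨Submodule.Quotient.mk x, ?_⟩
      rw [ha2, Submodule.Quotient.eq, hx]
      exact ⟨-d, by rw [map_neg]; abel⟩
    · rintro ⟨v, hv⟩
      obtain ⟨x, rfl⟩ := Submodule.Quotient.mk_surjective _ v
      rw [← hv, ha2, hb2, hgf2, Submodule.Quotient.mk_zero]
  · -- the connecting maps
    have h1 : ∀ y : (ker S.dZ0).comap S.g0, ∃ x : ker S.dX1, S.f1 x = S.dY0 y := fun y => by
      obtain ⟨x, hx⟩ := (S.e1 (S.dY0 (y : Y0))).mp (by rw [S.cg0]; exact y.2)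
      exact ⟨⟨x, S.if2 (by rw [S.cf1, hx, S.dY, map_zero])⟩, hx⟩
    choose L0 hL0 using h1
    let L0' : (ker S.dZ0).comap S.g0 →ₗ[R] (ker S.dX1 ⧸ (range S.dX0).comap (ker S.dX1).subtype) :=
      ((range S.dX0).comap (ker S.dX1).subtype).mkQ ∘ₗ
        { toFun := L0
          map_add' := fun a b => Subtype.ext (S.if1 (by simp [hL0]))
          map_smul' := fun r a => Subtype.ext (S.if1 (by simp [hL0])) }
    let π0 : (ker S.dZ0).comap S.g0 →ₗ[R] ker S.dZ0 := S.g0.restrict fun _ h => h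
    have hπ0 : Function.Surjective π0 := fun z => by
      obtain ⟨y, hy⟩ := S.sg0 z
      exact ⟨⟨y, by rw [Submodule.mem_comap, hy]; exact z.2⟩, Subtype.ext hy⟩
    have hk0 : ker π0 ≤ ker L0' := fun y hy => by
      obtain ⟨x, hx⟩ := (S.e0 (y : Y0)).mp (congrArg Subtype.val (mem_ker.mp hy))
      rw [mem_ker]
      show Submodule.Quotient.mk (L0 y) = 0
      rw [Submodule.Quotient.mk_eq_zero]
      exact ⟨x, S.if1 (by rw [S.cf0, hx, Submodule.subtype_apply, hL0])⟩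
    have h2 : ∀ y : (ker S.dZ1).comap S.g1, ∃ x : X2, S.f2 x = S.dY1 y := fun y => by
      exact (S.e2 (S.dY1 (y : Y1))).mp (by rw [S.cg1]; exact y.2)
    choose L1 hL1 using h2
    let L1' : (ker S.dZ1).comap S.g1 →ₗ[R] (X2 ⧸ range S.dX1) :=
      (range S.dX1).mkQ ∘ₗ
        { toFun := L1
          map_add' := fun a b => S.if2 (by simp [hL1])
          map_smul' := fun r a => S.if2 (by simp [hL1]) }
    let π1 : (ker S.dZ1).comap S.g1 →ₗ[R] (ker S.dZ1 ⧸ (range S.dZ0).comap (ker S.dZ1).subtype) :=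
      ((range S.dZ0).comap (ker S.dZ1).subtype).mkQ ∘ₗ S.g1.restrict fun _ h => h
    have hπ1 : Function.Surjective π1 := fun w => by
      obtain ⟨z, rfl⟩ := Submodule.Quotient.mk_surjective _ w
      obtain ⟨y, hy⟩ := S.sg1 z
      exact ⟨⟨y, by rw [Submodule.mem_comap, hy]; exact z.2⟩, congrArg Submodule.Quotient.mk (Subtype.ext hy)⟩
    have hk1 : ker π1 ≤ ker L1' := fun y hy => by
      obtain ⟨c, hc⟩ := (Submodule.Quotient.mk_eq_zero _).mp (mem_ker.mp hy)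
      obtain ⟨d, rfl⟩ := S.sg0 c
      obtain ⟨x, hx⟩ := (S.e1 ((y : Y1) - S.dY0 d)).mp (by rw [map_sub, S.cg0]; exact sub_eq_zero.mpr hc.symm)
      rw [mem_ker]
      show Submodule.Quotient.mk (L1 y) = 0
      rw [Submodule.Quotient.mk_eq_zero]
      exact ⟨x, S.if2 (by rw [S.cf1, hx, map_sub, S.dY, sub_zero, hL1])⟩
    let δ0 := (ker π0).liftQ L0' hk0 ∘ₗ (π0.quotKerEquivOfSurjective hπ0).symm.toLinearMap
    let δ1 := (ker π1).liftQ L1' hk1 ∘ₗ (π1.quotKerEquivOfSurjective hπ1).symm.toLinearMap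
    have hδ0 : ∀ y, δ0 (π0 y) = L0' y := fun y => by
      have : (π0.quotKerEquivOfSurjective hπ0).symm (π0 y) = Submodule.Quotient.mk y := by
        rw [LinearEquiv.symm_apply_eq]; rfl
      simp [δ0, this]
    have hδ1 : ∀ y, δ1 (π1 y) = L1' y := fun y => by
      have : (π1.quotKerEquivOfSurjective hπ1).symm (π1 y) = Submodule.Quotient.mk y := by
        rw [LinearEquiv.symm_apply_eq]; rfl
      simp [δ1, this]
    refine ⟨δ0, δ1, ?_, ?_, ?_, ?_⟩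
    · intro z
      obtain ⟨y, rfl⟩ := hπ0 z
      rw [hδ0]
      show Submodule.Quotient.mk (L0 y) = 0 ↔ _
      rw [Submodule.Quotient.mk_eq_zero]
      constructor
      · rintro ⟨x, hx⟩
        have hx' : S.dX0 x = (L0 y : X1) := hx
        refine ⟨⟨(y : Y0) - S.f0 x, by rw [mem_ker, map_sub, ← S.cf0, hx', hL0, sub_self]⟩, Subtype.ext ?_⟩
        rw [hb0, map_sub, hgf0, sub_zero]
        rfl
      · rintro ⟨y', hy'⟩
        obtain ⟨x, hx⟩ := (S.e0 ((y : Y0) - y')).mp (by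
          rw [map_sub, ← hb0, hy']; exact sub_self _)
        exact ⟨x, S.if1 (by rw [S.cf0, hx, map_sub, mem_ker.mp y'.2, sub_zero, Submodule.subtype_apply, hL0])⟩
    · intro v
      obtain ⟨x, rfl⟩ := Submodule.Quotient.mk_surjective _ v
      obtain ⟨y', hy', hay⟩ := ha1 x
      constructor
      · intro h
        rw [hay, Submodule.Quotient.mk_eq_zero] at h
        obtain ⟨d, hd⟩ := h
        have hd' : S.dY0 d = S.f1 x := hd.trans hy'
        have hdk : d ∈ (ker S.dZ0).comap S.g0 := by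
          rw [Submodule.mem_comap, mem_ker, ← S.cg0, hd', hgf1]
        refine ⟨π0 ⟨d, hdk⟩, ?_⟩
        rw [hδ0]
        exact congrArg Submodule.Quotient.mk (Subtype.ext (S.if1 ((hL0 _).trans hd')))
      · rintro ⟨z, hz⟩
        obtain ⟨y, rfl⟩ := hπ0 z
        rw [hδ0] at hz
        rw [← hz]
        obtain ⟨y'', hy'', hay''⟩ := ha1 (L0 y)
        show a1 (Submodule.Quotient.mk (L0 y)) = 0
        rw [hay'', Submodule.Quotient.mk_eq_zero]
        exact ⟨y, by rw [Submodule.subtype_apply, hy'', hL0]⟩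
    · intro w
      obtain ⟨y, rfl⟩ := hπ1 w
      rw [hδ1]
      show Submodule.Quotient.mk (L1 y) = 0 ↔ _
      rw [Submodule.Quotient.mk_eq_zero]
      constructor
      · rintro ⟨x, hx⟩
        have hk : (y : Y1) - S.f1 x ∈ ker S.dY1 := by rw [mem_ker, map_sub, ← S.cf1, hx, hL1, sub_self]
        obtain ⟨z, hz, hbz⟩ := hb1 ⟨_, hk⟩
        refine ⟨Submodule.Quotient.mk ⟨_, hk⟩, ?_⟩
        rw [hbz]
        refine congrArg Submodule.Quotient.mk (Subtype.ext ?_)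
        rw [hz, map_sub, hgf1, sub_zero]
        rfl
      · rintro ⟨v, hv⟩
        obtain ⟨y', rfl⟩ := Submodule.Quotient.mk_surjective _ v
        obtain ⟨z, hz, hbz⟩ := hb1 y'
        rw [hbz] at hv
        have hv' : Submodule.Quotient.mk z = π1 y := hv
        obtain ⟨c, hc⟩ := (Submodule.Quotient.eq _).mp hv'
        obtain ⟨d, rfl⟩ := S.sg0 c
        have hc' : S.dZ0 (S.g0 d) = S.g1 y' - S.g1 y := by rw [← hz]; exact hc
        obtain ⟨x, hx⟩ := (S.e1 ((y : Y1) - y' + S.dY0 d)).mp (by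
          rw [map_add, map_sub, S.cg0, hc']; abel)
        exact ⟨x, S.if2 (by rw [S.cf1, hx, map_add, map_sub, S.dY, mem_ker.mp y'.2, sub_zero, add_zero, hL1])⟩
    · intro v
      obtain ⟨x, rfl⟩ := Submodule.Quotient.mk_surjective _ v
      constructor
      · intro h
        rw [ha2, Submodule.Quotient.mk_eq_zero] at h
        obtain ⟨d, hd⟩ := h
        have hdk : d ∈ (ker S.dZ1).comap S.g1 := by
          rw [Submodule.mem_comap, mem_ker, ← S.cg1, hd, hgf2]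
        refine ⟨π1 ⟨d, hdk⟩, ?_⟩
        rw [hδ1]
        exact congrArg Submodule.Quotient.mk (S.if2 ((hL1 _).trans hd))
      · rintro ⟨z, hz⟩
        obtain ⟨y, rfl⟩ := hπ1 z
        rw [hδ1] at hz
        rw [← hz]
        show a2 (Submodule.Quotient.mk (L1 y)) = 0
        rw [ha2, hL1, Submodule.Quotient.mk_eq_zero]
        exact ⟨y, rfl⟩

end Groth.Agent.CotTLib
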