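import Groth.Agent.CotTLib.ChangeBase
import Groth.Agent.CotTLib.NineTerm

/-! The nine-term sequence of `A → B → C` for composed presentations. -/

set_option autoImplicit false

noncomputable section

open TensorProduct

namespace Groth.Agent.CotTLib

open CotT

universe u w v m

theorem exact_of_sum_basis {B C : Type*} [CommRing B] [CommRing C] {ι ι' : Type*}
    {LQ LK LP M : Type*} [AddCommGroup LQ] [Module C LQ] [AddCommGroup LK] [Module C LK] [AddCommGroup LP]
    [Module B LP] [AddCommGroup M] [Module C M] [Module B M]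
    (bQ : Module.Basis ι' C LQ) (bK : Module.Basis (ι' ⊕ ι) C LK) (bP : Module.Basis ι B LP)
    (f : (LQ →ₗ[C] M) → (LK →ₗ[C] M)) (g : (LK →ₗ[C] M) → (LP →ₗ[B] M))
    (hl : ∀ φ j, f φ (bK (Sum.inl j)) = φ (bQ j)) (hr : ∀ φ i, f φ (bK (Sum.inr i)) = 0)
    (hg : ∀ ψ i, g ψ (bP i) = ψ (bK (Sum.inr i))) :
    Function.Injective f ∧ Function.Exact f g ∧ Function.Surjective g := by
  refine ⟨fun φ φ' h => bQ.ext fun j => by rw [← hl, ← hl, h], fun ψ => ⟨fun h => ?_, ?_⟩, fun χ => ?_⟩
  · refine ⟨bQ.constr C fun j => ψ (bK (Sum.inl j)), bK.ext ?_⟩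
    rintro (j | i)
    · rw [hl, Module.Basis.constr_basis]
    · rw [hr, ← hg, h]; rfl
  · rintro ⟨φ, rfl⟩
    exact bP.ext fun i => by rw [hg, hr]; rfl
  · refine ⟨bK.constr C (Sum.elim 0 fun i => χ (bP i)), bP.ext fun i => ?_⟩
    rw [hg, Module.Basis.constr_basis]
    rfl

variable {A B C : Type u} [CommRing A] [CommRing B] [CommRing C]
variable [Algebra A B] [Algebra B C] [Algebra A C] [IsScalarTower A B C]
variable {ι σ ι' σ' : Type u}
variable (P : Algebra.Presentation A B ι σ) (Q : Algebra.Presentation B C ι' σ')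

/-- `P → Q.comp P` -/
def toCompHom : PresHom P (Q.comp P) where
  hom := Q.toGenerators.toComp P.toGenerators
  relVal s := Finsupp.single (Sum.inr s) 1
  jmap_relVal s := by
    rw [jmap_single, one_mul]
    exact ((DFunLike.congr_fun (Algebra.Generators.toComp_toAlgHom Q.toGenerators P.toGenerators) (P.relation s)).trans rfl).symm

theorem toCompHom_ringHom (p : P.toExtension.Ring) :
    (toCompHom P Q).ringHom p = MvPolynomial.rename Sum.inr p :=
  DFunLike.congr_fun (Algebra.Generators.toComp_toAlgHom Q.toGenerators P.toGenerators) p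

theorem ofComp_inl (r : σ') :
    (Q.toGenerators.ofComp P.toGenerators).toExtensionHom.toRingHom (rel (Q.comp P) (Sum.inl r)) = rel Q r := by
  show (Q.toGenerators.ofComp P.toGenerators).toAlgHom ((Q.comp P).relation (Sum.inl r)) = _
  refine Eq.trans ?_ (Algebra.Presentation.comp_aeval_relation_inl Q P r)
  refine DFunLike.congr_fun (MvPolynomial.algHom_ext fun i => ?_) ((Q.comp P).relation (Sum.inl r))
  refine (Algebra.Generators.Hom.toAlgHom_X _ i).trans ?_
  rw [MvPolynomial.aeval_X]
  cases i <;> rfl

theorem ofComp_inr (s : σ) :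
    (Q.toGenerators.ofComp P.toGenerators).toExtensionHom.toRingHom (rel (Q.comp P) (Sum.inr s)) = 0 := by
  show (Q.toGenerators.ofComp P.toGenerators).toAlgHom ((Q.comp P).relation (Sum.inr s)) = 0
  rw [Algebra.Presentation.comp_relation_inr, ← RingHom.mem_ker, ← Algebra.Generators.map_toComp_ker]
  have h : (Q.toGenerators.toComp P.toGenerators).toAlgHom (P.relation s) ∈
      P.ker.map (Q.toGenerators.toComp P.toGenerators).toAlgHom := Ideal.mem_map_of_mem _ (P.relation_mem_ker s)
  rwa [Algebra.Generators.toComp_toAlgHom] at h ⊢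

/-- `Q.comp P → Q` -/
def ofCompHom : PresHom (Q.comp P) Q where
  hom := Q.toGenerators.ofComp P.toGenerators
  relVal := Sum.elim (fun r => Finsupp.single r 1) 0
  jmap_relVal := by
    rintro (r | s)
    · rw [Sum.elim_inl, jmap_single, one_mul]; exact (ofComp_inl P Q r).symm
    · rw [Sum.elim_inr, Pi.zero_apply, map_zero]; exact (ofComp_inr P Q s).symm

theorem ofCompHom_surjective : Function.Surjective (ofCompHom P Q).ringHom :=
  Algebra.Generators.toAlgHom_ofComp_surjective Q.toGenerators P.toGenerators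

theorem ofCompHom_relModMap_surjective : Function.Surjective (ofCompHom P Q).relModMap := fun y => by
  induction y using Finsupp.induction_linear with
  | zero => exact ⟨0, map_zero _⟩
  | add a b ha hb =>
    obtain ⟨x, rfl⟩ := ha
    obtain ⟨z, rfl⟩ := hb
    exact ⟨x + z, map_add _ _ _⟩
  | single r c =>
    obtain ⟨d, rfl⟩ := ofCompHom_surjective P Q c
    refine ⟨Finsupp.single (Sum.inl r) d, ?_⟩
    rw [PresHom.relModMap_single]
    show (ofCompHom P Q).ringHom d • Finsupp.single r (1 : Q.toExtension.Ring) = _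
    rw [Finsupp.smul_single, smul_eq_mul, mul_one]

theorem exists_inr_of_ker {x : (Q.comp P).toExtension.Ring} (hx : (ofCompHom P Q).ringHom x = 0) :
    ∃ e : σ →₀ (Q.comp P).toExtension.Ring,
      jmap (Q.comp P) (Finsupp.lmapDomain (Q.comp P).toExtension.Ring (Q.comp P).toExtension.Ring Sum.inr e) = x := by
  have hmem : x ∈ P.ker.map (Q.toGenerators.toComp P.toGenerators).toAlgHom := by
    rw [Algebra.Generators.map_toComp_ker]; exact hx
  have h2 : P.ker.map (Q.toGenerators.toComp P.toGenerators).toAlgHom =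
      Ideal.span (Set.range fun s => rel (Q.comp P) (Sum.inr s)) := by
    rw [← P.span_range_relation_eq_ker, Ideal.map_span, ← Set.range_comp]
    congr 2
    funext s
    exact (DFunLike.congr_fun (Algebra.Generators.toComp_toAlgHom Q.toGenerators P.toGenerators) (P.relation s)).trans rfl
  have h3 : x ∈ Submodule.span (Q.comp P).toExtension.Ring (Set.range fun s => rel (Q.comp P) (Sum.inr s)) := (le_of_eq h2) hmem
  rw [← Finsupp.range_linearCombination] at h3
  obtain ⟨e, he⟩ := h3
  refine ⟨e, ?_⟩
  rw [jmap, Finsupp.lmapDomain_apply, Finsupp.linearCombination_mapDomain]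
  exact he

theorem relModMap_inr (e : σ →₀ (Q.comp P).toExtension.Ring) :
    (ofCompHom P Q).relModMap (Finsupp.lmapDomain (Q.comp P).toExtension.Ring (Q.comp P).toExtension.Ring Sum.inr e) = 0 := by
  induction e using Finsupp.induction_linear with
  | zero => simp
  | add a b ha hb => rw [map_add, map_add, ha, hb, add_zero]
  | single s r =>
    rw [Finsupp.lmapDomain_apply, Finsupp.mapDomain_single, PresHom.relModMap_single]
    exact smul_zero _

theorem relModMap_apply_inl (x : relMod (Q.comp P)) (r : σ') :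
    (ofCompHom P Q).relModMap x r = (ofCompHom P Q).ringHom (x (Sum.inl r)) := by
  classical
  induction x using Finsupp.induction_linear with
  | zero => rw [map_zero, Finsupp.zero_apply]; exact (map_zero (ofCompHom P Q).ringHom).symm
  | add a b ha hb => rw [map_add, Finsupp.add_apply, ha, hb, Finsupp.add_apply]; exact (map_add (ofCompHom P Q).ringHom _ _).symm
  | single k c =>
    rw [PresHom.relModMap_single]
    rcases k with r' | s
    · show ((ofCompHom P Q).ringHom c • Finsupp.single r' (1 : Q.toExtension.Ring)) r = _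
      rw [Finsupp.smul_single, smul_eq_mul, mul_one]
      by_cases h : r' = r
      · subst h; rw [Finsupp.single_eq_same, Finsupp.single_eq_same]
      · rw [Finsupp.single_eq_of_ne (Ne.symm h), Finsupp.single_eq_of_ne (by simpa using Ne.symm h), map_zero]
    · show ((ofCompHom P Q).ringHom c • (0 : relMod Q)) r = _
      rw [smul_zero, Finsupp.single_eq_of_ne (by simp), map_zero]
      rfl

theorem ofCompHom_L2map_surjective : Function.Surjective (ofCompHom P Q).L2map := fun z => by
  obtain ⟨q, rfl⟩ := exists_mk_eq Q z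
  obtain ⟨a, ha⟩ := ofCompHom_relModMap_surjective P Q (q : relMod Q)
  obtain ⟨e, he⟩ := exists_inr_of_ker P Q (x := jmap (Q.comp P) a) (by
    rw [← PresHom.jmap_relModMap, ha]; exact q.2)
  refine ⟨relClass (Q.comp P) ⟨a - Finsupp.lmapDomain (Q.comp P).toExtension.Ring (Q.comp P).toExtension.Ring Sum.inr e,
    LinearMap.mem_ker.mpr (by rw [map_sub, he, sub_self])⟩, ?_⟩
  rw [L2map_relClass]
  refine congrArg (relClass Q) (Subtype.ext ?_)
  rw [PresHom.relKerMap_coe, map_sub, relModMap_inr, sub_zero]
  exact ha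

theorem exists_decompose_inr (y : relMod (Q.comp P)) (hy : jmap (Q.comp P) y = 0)
    (hl : ∀ r, y (Sum.inl r) = 0) :
    y ∈ Submodule.span (Q.comp P).toExtension.Ring (Set.range fun q : relKer P => (toCompHom P Q).relModMap q) := by
  classical
  let E : (Q.comp P).toExtension.Ring ≃+* MvPolynomial ι' P.toExtension.Ring :=
    (MvPolynomial.sumAlgEquiv A ι' ι).toRingEquiv
  have hE : ∀ p : P.toExtension.Ring, E ((toCompHom P Q).ringHom p) = MvPolynomial.C p := fun p => by
    rw [toCompHom_ringHom]
    exact DFunLike.congr_fun (MvPolynomial.sumAlgEquiv_comp_rename_inr (R := A) (S₁ := ι') (S₂ := ι)) p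
  let c : σ → (ι' →₀ ℕ) → P.toExtension.Ring := fun s m => MvPolynomial.coeff m (E (y (Sum.inr s)))
  let S : Finset (ι' →₀ ℕ) := (y.support.toRight).biUnion fun s => (E (y (Sum.inr s))).support
  let cm : (ι' →₀ ℕ) → relMod P := fun m =>
    Finsupp.onFinset y.support.toRight (fun s => c s m) fun s hs => by
      simp only [Finset.mem_toRight, Finsupp.mem_support_iff]
      intro h
      apply hs
      simp [c, h]
  have hmap : ∀ (x : relMod P) (s : σ), (toCompHom P Q).relModMap x (Sum.inr s) = (toCompHom P Q).ringHom (x s) ∧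
      ∀ r, (toCompHom P Q).relModMap x (Sum.inl r) = 0 := by
    intro x s
    induction x using Finsupp.induction_linear with
    | zero => exact ⟨by rw [map_zero, Finsupp.zero_apply]; exact (map_zero (toCompHom P Q).ringHom).symm, fun r => by rw [map_zero]; rfl⟩
    | add a b ha hb =>
      exact ⟨by rw [map_add, Finsupp.add_apply, ha.1, hb.1]; exact (map_add (toCompHom P Q).ringHom _ _).symm,
        fun r => by rw [map_add, Finsupp.add_apply, ha.2, hb.2, add_zero]⟩
    | single s' d =>
      rw [PresHom.relModMap_single]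
      show ((toCompHom P Q).ringHom d • Finsupp.single (Sum.inr s') (1 : (Q.comp P).toExtension.Ring)) (Sum.inr s) = _ ∧
        ∀ r, ((toCompHom P Q).ringHom d • Finsupp.single (Sum.inr s') (1 : (Q.comp P).toExtension.Ring)) (Sum.inl r) = 0
      rw [Finsupp.smul_single, smul_eq_mul, mul_one]
      refine ⟨?_, fun r => Finsupp.single_eq_of_ne (by simp)⟩
      by_cases h : s' = s
      · subst h; rw [Finsupp.single_eq_same, Finsupp.single_eq_same]
      · rw [Finsupp.single_eq_of_ne (by simpa using Ne.symm h), Finsupp.single_eq_of_ne (Ne.symm h), map_zero]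
  have hcm : ∀ m, cm m ∈ relKer P := by
    intro m
    rw [relKer, LinearMap.mem_ker, jmap, Finsupp.linearCombination_apply,
      Finsupp.sum_of_support_subset _ (s := y.support.toRight) Finsupp.support_onFinset_subset _ (by simp)]
    have h1 : jmap (Q.comp P) y = ∑ s ∈ y.support.toRight, y (Sum.inr s) * rel (Q.comp P) (Sum.inr s) := by
      rw [jmap, Finsupp.linearCombination_apply, Finsupp.sum]
      refine (Finset.sum_bij (fun s _ => Sum.inr s) (fun s hs => Finset.mem_toRight.mp hs)
        (fun _ _ _ _ h => Sum.inr_injective h) (fun k hk => ?_) (fun s _ => rfl)).symm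
      rcases k with r | s
      · exact absurd (hl r) (Finsupp.mem_support_iff.mp hk)
      · exact ⟨s, Finset.mem_toRight.mpr hk, rfl⟩
    have hEr : ∀ s, E (rel (Q.comp P) (Sum.inr s)) = MvPolynomial.C (rel P s) := fun s => by
      rw [← hE]; exact congrArg E (toCompHom_ringHom P Q _).symm
    have h2 := congrArg (fun z => MvPolynomial.coeff m (E z)) (h1.symm.trans hy)
    simp only [map_zero, MvPolynomial.coeff_zero, map_sum, map_mul, hEr, MvPolynomial.coeff_sum] at h2
    refine Eq.trans ?_ h2
    refine Finset.sum_congr rfl fun s _ => ?_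
    rw [mul_comm (E _), MvPolynomial.coeff_C_mul, mul_comm]
    rfl
  have hy' : y = ∑ m ∈ S, E.symm (MvPolynomial.monomial m 1) • (toCompHom P Q).relModMap (cm m) := by
    ext k
    rw [Finsupp.finsetSum_apply]
    rcases k with r | s
    · rw [hl, Finset.sum_eq_zero]
      intro m _
      rcases isEmpty_or_nonempty σ with hσ | hσ
      · simp [Subsingleton.elim (cm m) 0]
      · rw [Finsupp.smul_apply, (hmap (cm m) (Classical.arbitrary σ)).2 r, smul_zero]
    · apply E.injective
      rw [map_sum]
      simp only [Finsupp.smul_apply, (hmap _ s).1, smul_eq_mul, map_mul, hE, RingEquiv.apply_symm_apply]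
      by_cases hs : s ∈ y.support.toRight
      · refine (MvPolynomial.as_sum _).trans (Finset.sum_subset_zero_on_sdiff
          (Finset.subset_biUnion_of_mem (fun s => (E (y (Sum.inr s))).support) hs) (fun m hm => ?_) fun m _ => ?_)
        · have : cm m s = 0 := MvPolynomial.notMem_support_iff.mp (Finset.mem_sdiff.mp hm).2
          rw [this, map_zero, mul_zero]
        · show MvPolynomial.monomial m (c s m) = MvPolynomial.monomial m (1 : P.toExtension.Ring) * MvPolynomial.C (c s m)
          rw [mul_comm, MvPolynomial.C_mul_monomial, mul_one]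
      · have h0 : y (Sum.inr s) = 0 := by simpa [Finset.mem_toRight] using hs
        rw [h0, map_zero, Finset.sum_eq_zero]
        intro m _
        have : cm m s = 0 := by show c s m = 0; simp [c, h0]
        rw [this, map_zero, mul_zero]
  rw [hy']
  exact sum_mem fun m _ => Submodule.smul_mem _ _ (Submodule.subset_span ⟨⟨cm m, hcm m⟩, rfl⟩)

theorem span_le_relKer :
    Submodule.span (Q.comp P).toExtension.Ring (Set.range fun p : relKer P => (toCompHom P Q).relModMap p) ≤
      relKer (Q.comp P) := by
  refine Submodule.span_le.mpr ?_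
  rintro _ ⟨p, rfl⟩
  rw [SetLike.mem_coe, relKer, LinearMap.mem_ker, PresHom.jmap_relModMap]
  rw [show jmap P (p : relMod P) = 0 from p.2]
  exact map_zero (toCompHom P Q).ringHom

theorem relClass_mem_span (w : relMod (Q.comp P))
    (hw : w ∈ Submodule.span (Q.comp P).toExtension.Ring (Set.range fun p : relKer P => (toCompHom P Q).relModMap p))
    (hk : w ∈ relKer (Q.comp P)) :
    relClass (Q.comp P) ⟨w, hk⟩ ∈ Submodule.span C (Set.range (toCompHom P Q).L2map) := by
  induction hw using Submodule.span_induction with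
  | mem w hw =>
    obtain ⟨p, hp⟩ := hw
    have h1 : (toCompHom P Q).relKerMap p = ⟨w, hk⟩ := Subtype.ext hp
    rw [← h1, ← L2map_relClass (toCompHom P Q) p]
    exact Submodule.subset_span (Set.mem_range_self _)
  | zero =>
    have h1 : relClass (Q.comp P) ⟨0, hk⟩ = 0 := relClass_eq_zero _ (zero_mem _)
    rw [h1]
    exact zero_mem _
  | add a b ha hb iha ihb =>
    have h1 : relClass (Q.comp P) ⟨a + b, hk⟩ =
        relClass (Q.comp P) ⟨a, span_le_relKer P Q ha⟩ + relClass (Q.comp P) ⟨b, span_le_relKer P Q hb⟩ :=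
      (relClass (Q.comp P)).map_add ⟨a, span_le_relKer P Q ha⟩ ⟨b, span_le_relKer P Q hb⟩
    rw [h1]
    exact add_mem (iha _) (ihb _)
  | smul c a ha iha =>
    have h1 : relClass (Q.comp P) ⟨c • a, hk⟩ =
        algebraMap (Q.comp P).toExtension.Ring C c • relClass (Q.comp P) ⟨a, span_le_relKer P Q ha⟩ :=
      relClass_smul c ⟨a, span_le_relKer P Q ha⟩
    rw [h1]
    exact Submodule.smul_mem _ _ (iha _)

/-- exactness in degree two -/
theorem ker_ofCompHom_L2map {z : L2 (Q.comp P)} (hz : (ofCompHom P Q).L2map z = 0) :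
    z ∈ Submodule.span C (Set.range (toCompHom P Q).L2map) := by
  classical
  obtain ⟨q, rfl⟩ := exists_mk_eq (Q.comp P) z
  have h0 : (ofCompHom P Q).relModMap (q : relMod (Q.comp P)) ∈ trivRel Q :=
    (relClass_eq_zero_iff Q ((ofCompHom P Q).relKerMap q)).mp (by rw [← L2map_relClass (ofCompHom P Q) q]; exact hz)
  obtain ⟨x, hx, hxe⟩ := trivRel_le_map (ofCompHom P Q) (ofCompHom_relModMap_surjective P Q) _ h0
    (ofCompHom_surjective P Q)
  have hker : ∀ r, (ofCompHom P Q).ringHom (((q : relMod (Q.comp P)) - x) (Sum.inl r)) = 0 := fun r => by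
    rw [← relModMap_apply_inl, map_sub, hxe, sub_self]; rfl
  choose e he using fun r => exists_inr_of_ker P Q (hker r)
  let ι₂ := Finsupp.lmapDomain (Q.comp P).toExtension.Ring (Q.comp P).toExtension.Ring (Sum.inr : σ → σ' ⊕ σ)
  let T : Finset σ' := ((q : relMod (Q.comp P)) - x).support.toLeft
  let t : relMod (Q.comp P) := ∑ r ∈ T, (jmap (Q.comp P) (ι₂ (e r)) • Finsupp.single (Sum.inl r) 1 -
    jmap (Q.comp P) (Finsupp.single (Sum.inl r) 1) • ι₂ (e r))
  have ht : t ∈ trivRel (Q.comp P) := sum_mem fun r _ => Submodule.subset_span ⟨_, _, rfl⟩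
  have htk : jmap (Q.comp P) t = 0 := trivRel_le_relKer (Q.comp P) ht
  have hy : (q : relMod (Q.comp P)) - x - t ∈ Submodule.span (Q.comp P).toExtension.Ring
      (Set.range fun p : relKer P => (toCompHom P Q).relModMap p) := by
    refine exists_decompose_inr P Q _ ?_ fun r => ?_
    · rw [map_sub, map_sub, show jmap (Q.comp P) (q : relMod (Q.comp P)) = 0 from q.2,
        show jmap (Q.comp P) x = 0 from trivRel_le_relKer (Q.comp P) hx, htk, sub_self, sub_self]
    · have hι : ∀ r', ι₂ (e r') (Sum.inl r) = 0 := fun r' => Finsupp.mapDomain_of_notMem_range _ _ (by simp)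
      have ht' : t (Sum.inl r) = ((q : relMod (Q.comp P)) - x) (Sum.inl r) := by
        simp only [t, Finsupp.finsetSum_apply, Finsupp.sub_apply, Finsupp.smul_apply, hι, smul_eq_mul, mul_zero, sub_zero]
        rw [Finset.sum_eq_single r]
        · rw [Finsupp.single_eq_same, mul_one, he, Finsupp.sub_apply]
        · intro r' _ hne
          rw [Finsupp.single_eq_of_ne (by simpa using Ne.symm hne), mul_zero]
        · intro hr
          rw [Finset.mem_toLeft, Finsupp.notMem_support_iff] at hr
          rw [Finsupp.single_eq_same, mul_one, he, hr]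
      rw [Finsupp.sub_apply, ht', sub_self]
  have hyk : (q : relMod (Q.comp P)) - x - t ∈ relKer (Q.comp P) :=
    sub_mem (sub_mem q.2 (trivRel_le_relKer _ hx)) (trivRel_le_relKer _ ht)
  have : relClass (Q.comp P) q = relClass (Q.comp P) ⟨_, hyk⟩ := relClass_eq_of _ _ (by
    show (q : relMod (Q.comp P)) - ((q : relMod (Q.comp P)) - x - t) ∈ trivRel (Q.comp P)
    rw [show (q : relMod (Q.comp P)) - ((q : relMod (Q.comp P)) - x - t) = x + t by abel]
    exact add_mem hx ht)
  show relClass (Q.comp P) q ∈ _
  rw [this]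
  exact relClass_mem_span P Q _ hy hyk

section Cochains

variable (M : Type m) [AddCommGroup M] [Module C M] [Module B M] [IsScalarTower B C M]

theorem basis_L0 (i : ι) : P.cotangentSpaceBasis i =
    (1 : B) ⊗ₜ KaehlerDifferential.D A P.toExtension.Ring (MvPolynomial.X i) :=
  Algebra.Generators.cotangentSpaceBasis_apply P.toGenerators i

theorem exact0 :
    Function.Injective ((ofCompHom P Q).pull0 M) ∧
      Function.Exact ((ofCompHom P Q).pull0 M) ((toCompHom P Q).pull0 M) ∧
      Function.Surjective ((toCompHom P Q).pull0 M) := by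
  refine exact_of_sum_basis Q.cotangentSpaceBasis (Q.comp P).cotangentSpaceBasis P.cotangentSpaceBasis
    _ _ (fun φ j => ?_) (fun φ i => ?_) (fun ψ i => ?_)
  · show φ ((ofCompHom P Q).L0map _) = φ _
    congr 1
    rw [PresHom.L0map_apply, Algebra.Generators.cotangentSpaceBasis_apply, Algebra.Generators.cotangentSpaceBasis_apply]
    refine (Algebra.Extension.CotangentSpace.map_tmul _ _ _).trans ?_
    rw [map_one]
    congr 2
    exact Algebra.Generators.Hom.toAlgHom_X _ _
  · show φ ((ofCompHom P Q).L0map _) = 0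
    rw [PresHom.L0map_apply, Algebra.Generators.cotangentSpaceBasis_apply]
    have h1 : KaehlerDifferential.D B Q.toExtension.Ring
        ((ofCompHom P Q).hom.toExtensionHom.toAlgHom (MvPolynomial.X (Sum.inr i))) = 0 := by
      rw [show (ofCompHom P Q).hom.toExtensionHom.toAlgHom (MvPolynomial.X (Sum.inr i)) =
        algebraMap B Q.toExtension.Ring (P.val i) from Algebra.Generators.Hom.toAlgHom_X _ _]
      exact Derivation.map_algebraMap _ _
    refine (congrArg φ (Algebra.Extension.CotangentSpace.map_tmul _ _ _)).trans ?_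
    rw [show KaehlerDifferential.D B Q.toExtension.Ring
        ((ofCompHom P Q).hom.toExtensionHom.toAlgHom (MvPolynomial.X (Sum.inr i))) = 0 from h1, tmul_zero, map_zero]
  · show ψ ((toCompHom P Q).L0map _) = ψ _
    congr 1
    rw [PresHom.L0map_apply, Algebra.Generators.cotangentSpaceBasis_apply, Algebra.Generators.cotangentSpaceBasis_apply]
    refine (Algebra.Extension.CotangentSpace.map_tmul _ _ _).trans ?_
    rw [map_one]
    congr 2
    exact Algebra.Generators.Hom.toAlgHom_X _ _

theorem exact1 :
    Function.Injective ((ofCompHom P Q).pull1 M) ∧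
      Function.Exact ((ofCompHom P Q).pull1 M) ((toCompHom P Q).pull1 M) ∧
      Function.Surjective ((toCompHom P Q).pull1 M) := by
  refine exact_of_sum_basis (L1basis Q) (L1basis (Q.comp P)) (L1basis P)
    _ _ (fun φ j => ?_) (fun φ i => ?_) (fun ψ i => ?_)
  · show φ ((ofCompHom P Q).L1map _) = φ _
    congr 1
    rw [L1basis_apply, L1basis_apply, PresHom.L1map_tmul, map_one, PresHom.relModMap_single, map_one, one_smul]
    rfl
  · show φ ((ofCompHom P Q).L1map _) = 0
    rw [L1basis_apply, PresHom.L1map_tmul, map_one, PresHom.relModMap_single, map_one, one_smul]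
    rw [show (ofCompHom P Q).relVal (Sum.inr i) = 0 from rfl, tmul_zero, map_zero]
  · show ψ ((toCompHom P Q).L1map _) = ψ _
    congr 1
    rw [L1basis_apply, L1basis_apply, PresHom.L1map_tmul, map_one, PresHom.relModMap_single, map_one, one_smul]
    rfl

theorem exact2 :
    Function.Injective ((ofCompHom P Q).pull2 M) ∧
      Function.Exact ((ofCompHom P Q).pull2 M) ((toCompHom P Q).pull2 M) := by
  have hsurj := ofCompHom_L2map_surjective P Q
  refine ⟨fun φ φ' h => LinearMap.ext fun z => ?_, fun ψ => ⟨fun h => ?_, ?_⟩⟩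
  · obtain ⟨y, rfl⟩ := hsurj z
    exact LinearMap.congr_fun h y
  · choose sec hsec using hsurj
    have hz : ∀ z, (ofCompHom P Q).L2map z = 0 → ψ z = 0 := fun z hz => by
      have h1 : Submodule.span C (Set.range (toCompHom P Q).L2map) ≤ LinearMap.ker ψ := by
        refine Submodule.span_le.mpr ?_
        rintro _ ⟨w, rfl⟩
        exact LinearMap.congr_fun h w
      exact h1 (ker_ofCompHom_L2map P Q hz)
    have hwd : ∀ z z', (ofCompHom P Q).L2map z = (ofCompHom P Q).L2map z' → ψ z = ψ z' := fun z z' e => by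
      rw [← sub_eq_zero, ← map_sub]
      exact hz _ (by rw [map_sub, e, sub_self])
    refine ⟨{ toFun := fun z => ψ (sec z)
              map_add' := fun a b => by rw [← map_add]; exact hwd _ _ (by rw [hsec, map_add, hsec, hsec])
              map_smul' := fun c a => by
                rw [RingHom.id_apply, ← map_smul]
                exact hwd _ _ (by rw [hsec, LinearMap.map_smulₛₗ, hsec]; rfl) }, ?_⟩
    exact LinearMap.ext fun z => hwd _ _ (hsec _)
  · rintro ⟨φ, rfl⟩
    refine LinearMap.ext fun w => ?_
    show φ ((ofCompHom P Q).L2map ((toCompHom P Q).L2map w)) = 0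
    obtain ⟨q, rfl⟩ := exists_mk_eq P w
    have h0 : (ofCompHom P Q).relModMap ((toCompHom P Q).relModMap (q : relMod P)) = 0 := by
      generalize (q : relMod P) = x
      induction x using Finsupp.induction_linear with
      | zero => simp
      | add a b ha hb => rw [map_add, map_add, ha, hb, add_zero]
      | single s r =>
        rw [PresHom.relModMap_single, LinearMap.map_smulₛₗ]
        show _ • (ofCompHom P Q).relModMap (Finsupp.single (Sum.inr s) 1) = 0
        rw [PresHom.relModMap_single]
        rw [show (ofCompHom P Q).relVal (Sum.inr s) = 0 from rfl, smul_zero, smul_zero]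
    rw [show (toCompHom P Q).L2map (Submodule.Quotient.mk ((1 : B) ⊗ₜ q)) = relClass (Q.comp P) ((toCompHom P Q).relKerMap q)
      from L2map_relClass _ q, L2map_relClass]
    rw [relClass_eq_zero _ (by rw [PresHom.relKerMap_coe, PresHom.relKerMap_coe, h0]; exact zero_mem _), map_zero]

/-- the nine-term sequence for composed presentations -/
theorem jacobi :
    Function.Injective ((ofCompHom P Q).T0pull M) ∧
    Function.Exact ((ofCompHom P Q).T0pull M) ((toCompHom P Q).T0pull M) ∧
    Function.Exact ((ofCompHom P Q).T1pull M) ((toCompHom P Q).T1pull M) ∧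
    Function.Exact ((ofCompHom P Q).T2pull M) ((toCompHom P Q).T2pull M) ∧
    ∃ (δ₀ : T0 P M →ₗ[B] T1 Q M) (δ₁ : T1 P M →ₗ[B] T2 Q M),
      Function.Exact ((toCompHom P Q).T0pull M) δ₀ ∧ Function.Exact δ₀ ((ofCompHom P Q).T1pull M) ∧
      Function.Exact ((toCompHom P Q).T1pull M) δ₁ ∧ Function.Exact δ₁ ((ofCompHom P Q).T2pull M) := by
  let S : Seq3 B (L0 Q →ₗ[C] M) (L1 Q →ₗ[C] M) (L2 Q →ₗ[C] M)
      (L0 (Q.comp P) →ₗ[C] M) (L1 (Q.comp P) →ₗ[C] M) (L2 (Q.comp P) →ₗ[C] M)
      (L0 P →ₗ[B] M) (L1 P →ₗ[B] M) (L2 P →ₗ[B] M) :=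
    { dX0 := (d1Star Q M).restrictScalars B, dX1 := (d2Star Q M).restrictScalars B,
      dY0 := (d1Star (Q.comp P) M).restrictScalars B, dY1 := (d2Star (Q.comp P) M).restrictScalars B,
      dZ0 := d1Star P M, dZ1 := d2Star P M,
      f0 := ((ofCompHom P Q).pull0 M).restrictScalars B, f1 := ((ofCompHom P Q).pull1 M).restrictScalars B,
      f2 := ((ofCompHom P Q).pull2 M).restrictScalars B,
      g0 := (toCompHom P Q).pull0 M, g1 := (toCompHom P Q).pull1 M, g2 := (toCompHom P Q).pull2 M,
      dX := fun x => LinearMap.congr_fun (d2Star_comp_d1Star Q M) x,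
      dY := fun x => LinearMap.congr_fun (d2Star_comp_d1Star (Q.comp P) M) x,
      dZ := fun x => LinearMap.congr_fun (d2Star_comp_d1Star P M) x,
      cf0 := fun x => (ofCompHom P Q).pull1_d1Star M x, cf1 := fun x => (ofCompHom P Q).pull2_d2Star M x,
      cg0 := fun x => (toCompHom P Q).pull1_d1Star M x, cg1 := fun x => (toCompHom P Q).pull2_d2Star M x,
      if0 := (exact0 P Q M).1, if1 := (exact1 P Q M).1, if2 := (exact2 P Q M).1,
      e0 := (exact0 P Q M).2.1, e1 := (exact1 P Q M).2.1, e2 := (exact2 P Q M).2,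
      sg0 := (exact0 P Q M).2.2, sg1 := (exact1 P Q M).2.2 }
  exact S.nine_term (((ofCompHom P Q).T0pull M).restrictScalars B) ((toCompHom P Q).T0pull M)
    (((ofCompHom P Q).T1pull M).restrictScalars B) ((toCompHom P Q).T1pull M)
    (((ofCompHom P Q).T2pull M).restrictScalars B) ((toCompHom P Q).T2pull M)
    (fun _ => rfl) (fun _ => rfl) (fun x => ⟨(ofCompHom P Q).cocycles1Pull M x, rfl, rfl⟩)
    (fun x => ⟨(toCompHom P Q).cocycles1Pull M x, rfl, rfl⟩) (fun _ => rfl) (fun _ => rfl)

end Cochains

end Groth.Agent.CotTLib
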