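import Groth.Agent.CotTLib.Relations

/-! Standard presentations: polynomial algebras and quotients of the base ring. -/

set_option autoImplicit false

noncomputable section

open TensorProduct

namespace Groth.Agent.CotTLib

open CotT

universe u v w

theorem RegFam.map_ringEquiv {R S : Type*} [CommRing R] [CommRing S] (e : R ≃+* S) {n : ℕ} {a : Fin n → R}
    (h : RegFam a) : RegFam (e ∘ a) := by
  intro i x hx
  obtain ⟨y, rfl⟩ := e.surjective x
  have key : ∀ z : R, e z ∈ Ideal.span ((e ∘ a) '' {j | j < i}) ↔ z ∈ Ideal.span (a '' {j | j < i}) := fun z => by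
    rw [Set.image_comp, ← Ideal.map_span, Ideal.mem_map_iff_of_surjective _ e.surjective]
    exact ⟨fun ⟨w, hw, hwe⟩ => e.injective hwe ▸ hw, fun hz => ⟨z, hz, rfl⟩⟩
  rw [key]
  refine h i y ((key _).mp ?_)
  rwa [map_mul]

variable {A : Type u} {B : Type u} [CommRing A] [CommRing B] [Algebra A B]

theorem exists_polyPres {κ : Type w} (e : MvPolynomial κ A ≃ₐ[A] B) :
    Nonempty (Algebra.Presentation A B κ PEmpty.{1}) := by
  have he : MvPolynomial.aeval (fun i => e (MvPolynomial.X i)) = e.toAlgHom := MvPolynomial.algHom_ext fun i => by simp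
  have hs : Function.Surjective (MvPolynomial.aeval (R := A) fun i => e (MvPolynomial.X i)) := by
    rw [he]; exact e.surjective
  refine ⟨{ toGenerators := Algebra.Generators.ofSurjective _ hs, relation := PEmpty.elim, span_range_relation_eq_ker := ?_ }⟩
  rw [Set.range_eq_empty, Ideal.span_empty, Algebra.Generators.ker_eq_ker_aeval_val]
  show ⊥ = RingHom.ker (MvPolynomial.aeval fun i => e (MvPolynomial.X i))
  rw [he]
  exact ((RingHom.injective_iff_ker_eq_bot _).mp e.injective).symm

theorem subsingleton_T1_T2_of_isEmpty {ι σ : Type w} [IsEmpty σ] (P : Algebra.Presentation A B ι σ)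
    (M : Type*) [AddCommGroup M] [Module B M] : Subsingleton (T1 P M) ∧ Subsingleton (T2 P M) := by
  refine ⟨?_, subsingleton_T2 P (fun c _ => by rw [Subsingleton.elim c 0]; exact zero_mem _) M⟩
  have h1 : Subsingleton (L1 P) := (L1basis P).repr.toEquiv.subsingleton
  exact (Submodule.mkQ_surjective _).subsingleton

/-- presentation of a quotient of the base ring by an ideal with given generators -/
theorem exists_quotPres (hs : Function.Surjective (algebraMap A B)) {n : ℕ} (a : Fin n → A)
    (hI : RingHom.ker (algebraMap A B) = Ideal.span (Set.range a)) :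
    ∃ P : Algebra.Presentation A B PEmpty.{1} (Fin n), rel P = MvPolynomial.C ∘ a := by
  let G : Algebra.Generators A B PEmpty.{1} := Algebra.Generators.ofSurjectiveAlgebraMap hs
  refine ⟨{ toGenerators := G, relation := MvPolynomial.C ∘ a, span_range_relation_eq_ker := ?_ }, rfl⟩
  rw [Algebra.Generators.ker_eq_ker_aeval_val, Set.range_comp, ← Ideal.map_span, ← hI]
  refine le_antisymm (Ideal.map_le_iff_le_comap.mpr fun x hx => ?_) fun p hp => ?_
  · rw [Ideal.mem_comap, RingHom.mem_ker, MvPolynomial.aeval_C]
    exact hx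
  · obtain ⟨r, rfl⟩ := MvPolynomial.C_surjective PEmpty.{1} p
    refine Ideal.mem_map_of_mem _ ?_
    rwa [RingHom.mem_ker, MvPolynomial.aeval_C] at hp

theorem regFam_rel (hs : Function.Surjective (algebraMap A B)) {n : ℕ} {a : Fin n → A} (h : RegFam a)
    (P : Algebra.Presentation A B PEmpty.{1} (Fin n)) (hP : rel P = MvPolynomial.C ∘ a) : RegFam (rel P) := by
  rw [hP]
  exact h.map_ringEquiv (MvPolynomial.isEmptyRingEquiv A PEmpty.{1}).symm

end Groth.Agent.CotTLib
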