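import Groth.Agent.CotTLib.Compare

/-! Relations among the members of a regular sequence are trivial; and conversely over a Noetherian local ring. -/

set_option autoImplicit false

noncomputable section

open TensorProduct

namespace Groth.Agent.CotTLib

universe u v w

variable {R : Type u} [CommRing R]

/-- the trivial relations of a family -/
def trivR {σ : Type v} (a : σ → R) : Submodule R (σ →₀ R) :=
  Submodule.span R {y | ∃ x x' : σ →₀ R,
    y = Finsupp.linearCombination R a x • x' - Finsupp.linearCombination R a x' • x}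

/-- each member of the family is a non-zero-divisor modulo the preceding ones -/
def RegFam {n : ℕ} (a : Fin n → R) : Prop :=
  ∀ i : Fin n, ∀ x : R, a i * x ∈ Ideal.span (a '' {j | j < i}) → x ∈ Ideal.span (a '' {j | j < i})

section Succ

variable {n : ℕ} (a : Fin (n + 1) → R)

theorem decompose (c : Fin (n + 1) →₀ R) : ∃ (c' : Fin n →₀ R) (r : R),
    c = Finsupp.lmapDomain R R Fin.castSucc c' + Finsupp.single (Fin.last n) r := by
  classical
  refine ⟨Finsupp.equivFunOnFinite.symm fun i => c i.castSucc, c (Fin.last n), ?_⟩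
  ext i
  refine Fin.lastCases ?_ (fun j => ?_) i
  · rw [Finsupp.add_apply, Finsupp.lmapDomain_apply, Finsupp.mapDomain_notin_range _ _ (by simp [Fin.castSucc_ne_last]),
      Finsupp.single_eq_same, zero_add]
  · rw [Finsupp.add_apply, Finsupp.lmapDomain_apply, Finsupp.mapDomain_apply (Fin.castSucc_injective n),
      Finsupp.single_eq_of_ne (Fin.castSucc_ne_last j), add_zero]
    rfl

theorem mapDomain_last (c : Fin n →₀ R) : Finsupp.lmapDomain R R Fin.castSucc c (Fin.last n) = 0 := by
  rw [Finsupp.lmapDomain_apply, Finsupp.mapDomain_notin_range _ _ (by simp [Fin.castSucc_ne_last])]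

theorem lc_mapDomain (c : Fin n →₀ R) :
    Finsupp.linearCombination R a (Finsupp.lmapDomain R R Fin.castSucc c) =
      Finsupp.linearCombination R (a ∘ Fin.castSucc) c := by
  rw [Finsupp.lmapDomain_apply, Finsupp.linearCombination_mapDomain]

theorem span_castSucc :
    Ideal.span (a '' {j | j < Fin.last n}) = Ideal.span (Set.range (a ∘ Fin.castSucc)) := by
  congr 1
  rw [Set.range_comp, Fin.range_castSucc]
  rfl

theorem image_castSucc (i : Fin n) : a '' {j | j < i.castSucc} = (a ∘ Fin.castSucc) '' {j | j < i} := by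
  ext x
  constructor
  · rintro ⟨j, hj, rfl⟩
    refine ⟨⟨(j : ℕ), lt_of_lt_of_le (Fin.lt_def.mp hj) (le_of_lt i.isLt)⟩, Fin.lt_def.mpr (Fin.lt_def.mp hj), rfl⟩
  · rintro ⟨j, hj, rfl⟩
    exact ⟨j.castSucc, by simpa using hj, rfl⟩

theorem regFam_castSucc (h : RegFam a) : RegFam (a ∘ Fin.castSucc) := fun i x hx => by
  have := h i.castSucc x (by rw [image_castSucc]; exact hx)
  rwa [image_castSucc] at this

theorem mem_span_range_iff (x : R) {m : ℕ} (b : Fin m → R) :
    x ∈ Ideal.span (Set.range b) ↔ ∃ d, Finsupp.linearCombination R b d = x := by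
  rw [Ideal.span, ← Finsupp.range_linearCombination, LinearMap.mem_range]

theorem trivR_decompose {t : Fin (n + 1) →₀ R} (ht : t ∈ trivR a) :
    ∃ t' ∈ trivR (a ∘ Fin.castSucc), ∃ d, t = Finsupp.lmapDomain R R Fin.castSucc t' +
      Finsupp.single (Fin.last n) (Finsupp.linearCombination R (a ∘ Fin.castSucc) d) -
      a (Fin.last n) • Finsupp.lmapDomain R R Fin.castSucc d := by
  induction ht using Submodule.span_induction with
  | mem y hy =>
    obtain ⟨x, x', rfl⟩ := hy
    obtain ⟨p, s, rfl⟩ := decompose x
    obtain ⟨q, u, rfl⟩ := decompose x'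
    refine ⟨_, Submodule.subset_span ⟨p, q, rfl⟩, u • p - s • q, ?_⟩
    simp only [map_add, map_sub, map_smul, lc_mapDomain, Finsupp.linearCombination_single, smul_eq_mul, smul_add,
      smul_sub, Finsupp.smul_single, Finsupp.single_sub, smul_smul, add_smul]
    rw [show u * Finsupp.linearCombination R (a ∘ Fin.castSucc) p = Finsupp.linearCombination R (a ∘ Fin.castSucc) p * u from
      mul_comm _ _, show s * Finsupp.linearCombination R (a ∘ Fin.castSucc) q = Finsupp.linearCombination R (a ∘ Fin.castSucc) q * s from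
      mul_comm _ _, show s * a (Fin.last n) * u = u * a (Fin.last n) * s by ring, mul_comm u (a (Fin.last n)),
      mul_comm s (a (Fin.last n))]
    abel
  | zero => exact ⟨0, zero_mem _, 0, by simp⟩
  | add y z _ _ hy hz =>
    obtain ⟨t1, h1, d1, rfl⟩ := hy
    obtain ⟨t2, h2, d2, rfl⟩ := hz
    refine ⟨t1 + t2, add_mem h1 h2, d1 + d2, ?_⟩
    simp only [map_add, Finsupp.single_add, smul_add]
    abel
  | smul r y _ hy =>
    obtain ⟨t1, h1, d1, rfl⟩ := hy
    refine ⟨r • t1, Submodule.smul_mem _ _ h1, r • d1, ?_⟩
    simp only [map_smul, smul_sub, smul_add, Finsupp.smul_single, smul_eq_mul, smul_smul, mul_comm r]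

theorem map_trivR_le :
    (trivR (a ∘ Fin.castSucc)).map (Finsupp.lmapDomain R R Fin.castSucc) ≤ trivR a := by
  rw [trivR, Submodule.map_span, Submodule.span_le]
  rintro _ ⟨_, ⟨p, q, rfl⟩, rfl⟩
  exact Submodule.subset_span ⟨Finsupp.lmapDomain R R Fin.castSucc p, Finsupp.lmapDomain R R Fin.castSucc q, by
    rw [lc_mapDomain, lc_mapDomain, map_sub, map_smul, map_smul]⟩

end Succ

theorem ker_le_trivR : ∀ {n : ℕ} (a : Fin n → R), RegFam a →
    LinearMap.ker (Finsupp.linearCombination R a) ≤ trivR a := by
  intro n
  induction n with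
  | zero => exact fun a _ c _ => by rw [Subsingleton.elim c 0]; exact zero_mem _
  | succ n ih =>
    intro a ha c hc
    obtain ⟨c', r, rfl⟩ := decompose c
    rw [LinearMap.mem_ker, map_add, lc_mapDomain, Finsupp.linearCombination_single, smul_eq_mul] at hc
    have hr : r ∈ Ideal.span (a '' {j | j < Fin.last n}) := ha _ r (by
      rw [span_castSucc, mul_comm, mem_span_range_iff]
      exact ⟨-c', by rw [map_neg]; linear_combination -hc⟩)
    rw [span_castSucc, mem_span_range_iff] at hr
    obtain ⟨d, rfl⟩ := hr
    have h1 : c' + a (Fin.last n) • d ∈ LinearMap.ker (Finsupp.linearCombination R (a ∘ Fin.castSucc)) := by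
      rw [LinearMap.mem_ker, map_add, map_smul, smul_eq_mul]
      linear_combination hc
    have h2 := map_trivR_le a (Submodule.mem_map_of_mem (ih _ (regFam_castSucc a ha) h1))
    have h3 : Finsupp.linearCombination R a (Finsupp.lmapDomain R R Fin.castSucc d) • Finsupp.single (Fin.last n) 1 -
        Finsupp.linearCombination R a (Finsupp.single (Fin.last n) 1) • Finsupp.lmapDomain R R Fin.castSucc d ∈ trivR a :=
      Submodule.subset_span ⟨_, _, rfl⟩
    rw [lc_mapDomain, Finsupp.linearCombination_single, Finsupp.smul_single, smul_eq_mul, smul_eq_mul, mul_one,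
      one_mul] at h3
    have h4 := add_mem h2 h3
    rw [map_add, map_smul] at h4
    convert h4 using 1
    abel

theorem regFam_of_ker_le_trivR [IsNoetherianRing R] [IsLocalRing R] : ∀ {n : ℕ} (a : Fin n → R),
    (∀ i, a i ∈ IsLocalRing.maximalIdeal R) →
    LinearMap.ker (Finsupp.linearCombination R a) ≤ trivR a → RegFam a := by
  intro n
  induction n with
  | zero => exact fun a _ _ i => i.elim0
  | succ n ih =>
    intro a hm hk
    have hk' : LinearMap.ker (Finsupp.linearCombination R (a ∘ Fin.castSucc)) ≤ trivR (a ∘ Fin.castSucc) := by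
      refine Submodule.le_of_le_smul_of_le_jacobson_bot (I := Ideal.span {a (Fin.last n)}) (IsNoetherian.noetherian _)
        ((Ideal.span_singleton_le_iff_mem _).mpr (IsLocalRing.maximalIdeal_le_jacobson _ (hm _))) ?_
      intro c hc
      have hc' : Finsupp.lmapDomain R R Fin.castSucc c ∈ LinearMap.ker (Finsupp.linearCombination R a) := by
        rwa [LinearMap.mem_ker, lc_mapDomain]
      obtain ⟨t', ht', d, hd⟩ := trivR_decompose a (hk hc')
      have hd0 : Finsupp.linearCombination R (a ∘ Fin.castSucc) d = 0 := by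
        have := DFunLike.congr_fun hd (Fin.last n)
        simpa [mapDomain_last, -Finsupp.lmapDomain_apply] using this.symm
      rw [hd0, Finsupp.single_zero, add_zero, ← map_smul, ← map_sub] at hd
      have hcd : c = t' - a (Fin.last n) • d := Finsupp.mapDomain_injective (Fin.castSucc_injective n) hd
      rw [hcd, sub_eq_add_neg, ← smul_neg]
      exact Submodule.add_mem_sup ht' (Submodule.smul_mem_smul (Ideal.mem_span_singleton_self _)
        (neg_mem (LinearMap.mem_ker.mpr hd0)))
    intro i
    refine Fin.lastCases ?_ (fun j => ?_) i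
    · intro x hx
      rw [span_castSucc, mem_span_range_iff] at hx ⊢
      obtain ⟨d0, hd0⟩ := hx
      obtain ⟨t', -, d, hd⟩ := trivR_decompose a (hk (x := Finsupp.single (Fin.last n) x -
        Finsupp.lmapDomain R R Fin.castSucc d0) (by
          rw [LinearMap.mem_ker, map_sub, lc_mapDomain, Finsupp.linearCombination_single, smul_eq_mul, hd0]; ring))
      refine ⟨d, ?_⟩
      have := DFunLike.congr_fun hd (Fin.last n)
      simpa [mapDomain_last, -Finsupp.lmapDomain_apply] using this.symm
    · intro x hx
      rw [image_castSucc] at hx ⊢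
      exact ih _ (fun k => hm _) hk' j x hx

theorem regFam_of_isWeaklyRegular {rs : List R} (h : RingTheory.Sequence.IsWeaklyRegular R rs) :
    RegFam (fun i : Fin rs.length => rs[i]) := by
  intro i x hx
  have hset : Ideal.span ((fun i : Fin rs.length => rs[i]) '' {j | j < i}) = Ideal.ofList (rs.take i) := by
    unfold Ideal.ofList
    congr 1
    ext y
    simp only [Set.mem_image, Set.mem_setOf_eq, List.mem_take_iff_getElem]
    constructor
    · rintro ⟨j, hj, rfl⟩
      exact ⟨j, by have := Fin.lt_def.mp hj; have := j.isLt; omega, rfl⟩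
    · rintro ⟨j, hj, rfl⟩
      exact ⟨⟨j, by omega⟩, Fin.lt_def.mpr (show j < (i : ℕ) by omega), rfl⟩
  rw [hset] at hx ⊢
  have h1 := (RingTheory.Sequence.isWeaklyRegular_iff R rs).mp h i i.isLt
  rw [smul_eq_mul, Ideal.mul_top] at h1
  have h2 : rs[(i : ℕ)] • (Submodule.Quotient.mk x : R ⧸ Ideal.ofList (rs.take i)) = 0 := by
    rw [← Submodule.Quotient.mk_smul, Submodule.Quotient.mk_eq_zero]
    exact hx
  exact (Submodule.Quotient.mk_eq_zero _).mp (h1.right_eq_zero_of_smul h2)

section Presentation

open CotT

variable {A : Type u} {B : Type u} [CommRing A] [CommRing B] [Algebra A B] {ι : Type w} {σ : Type v}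
variable (P : Algebra.Presentation A B ι σ)

theorem trivRel_eq : trivRel P = trivR (rel P) := rfl

theorem subsingleton_L2 (h : relKer P ≤ trivRel P) : Subsingleton (L2 P) := by
  refine subsingleton_of_forall_eq 0 fun z => ?_
  obtain ⟨q, rfl⟩ := exists_mk_eq P z
  exact relClass_eq_zero q (h q.2)

theorem subsingleton_T2 (h : relKer P ≤ trivRel P) (M : Type*) [AddCommGroup M] [Module B M] :
    Subsingleton (T2 P M) := by
  have := subsingleton_L2 P h
  exact (Submodule.mkQ_surjective _).subsingleton

end Presentation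

end Groth.Agent.CotTLib
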