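import Groth.Agent.CotTLib.Compare
import Groth.Agent.JacobianLib.Locus

/-! The retraction ideal of a presentation and annihilators of `T¹`. -/

set_option autoImplicit false

noncomputable section

open TensorProduct

namespace Groth.Agent.CotTLib

open CotT JacobianLib

universe u

variable {A B : Type u} [CommRing A] [CommRing B] [Algebra A B] {ι σ : Type u}
variable (P : Algebra.Presentation A B ι σ)

/-- the retraction ideal of a presentation -/
abbrev retract : Ideal P.toExtension.Ring := retractIdeal A (RingHom.ker (algebraMap P.toExtension.Ring B))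

theorem smoothLocus_mem_iff [IsNoetherianRing A] [Finite ι] (q : PrimeSpectrum B) :
    q ∈ Algebra.smoothLocus A B ↔ ¬ retract P ≤ q.asIdeal.comap (algebraMap P.toExtension.Ring B) := by
  haveI : Algebra.FormallySmooth A P.toExtension.Ring := inferInstanceAs (Algebra.FormallySmooth A (MvPolynomial ι A))
  haveI : IsNoetherianRing P.toExtension.Ring := inferInstanceAs (IsNoetherianRing (MvPolynomial ι A))
  haveI : Module.Finite P.toExtension.Ring (RingHom.ker (algebraMap P.toExtension.Ring B)) :=
    Module.Finite.of_fg (IsNoetherian.noetherian _)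
  haveI : Module.Finite P.toExtension.Ring (RingHom.ker (algebraMap P.toExtension.Ring B)).Cotangent :=
    Module.Finite.of_surjective _ (Ideal.toCotangent_surjective _)
  exact (retractIdeal_not_le_iff' (R := A) (B := P.toExtension.Ring) (C := B) (surjective_algebraMap P) q.asIdeal).symm

theorem exists_pow_mem_retract [IsNoetherianRing A] [Finite ι] (τ : P.toExtension.Ring)
    (h : ∀ q : PrimeSpectrum B, algebraMap P.toExtension.Ring B τ ∉ q.asIdeal → q ∈ Algebra.smoothLocus A B) :
    ∃ n : ℕ, τ ^ n ∈ retract P := by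
  suffices τ ∈ (retract P).radical from this
  rw [Ideal.radical_eq_sInf, Submodule.mem_sInf]
  rintro (p : Ideal P.toExtension.Ring) ⟨hp, hprime⟩
  haveI := hprime
  have hJ : RingHom.ker (algebraMap P.toExtension.Ring B) ≤ p := (le_retractIdeal _).trans hp
  haveI : (p.map (algebraMap P.toExtension.Ring B)).IsPrime :=
    Ideal.map_isPrime_of_surjective (surjective_algebraMap P) hJ
  have hco : (p.map (algebraMap P.toExtension.Ring B)).comap (algebraMap P.toExtension.Ring B) = p := by
    rw [Ideal.comap_map_of_surjective _ (surjective_algebraMap P), ← RingHom.ker_eq_comap_bot, sup_eq_left.mpr hJ]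
  by_contra hτ
  refine (smoothLocus_mem_iff P ⟨_, ‹(p.map (algebraMap P.toExtension.Ring B)).IsPrime›⟩).mp (h _ fun hm => hτ ?_) ?_
  · show τ ∈ p
    rw [← hco]; exact hm
  · rw [hco]; exact hp

theorem smul_T1_eq_zero_of_mem_retract {s : P.toExtension.Ring} (hs : s ∈ retract P)
    (M : Type u) [AddCommGroup M] [Module B M] (x : T1 P M) : algebraMap P.toExtension.Ring B s • x = 0 := by
  obtain ⟨Φ, hΦ⟩ := hs
  obtain ⟨φ, rfl⟩ := homToT1_surjective P M x
  rw [← map_smul, ← LinearMap.mem_ker, ker_homToT1]
  let Φ' : Ω[P.toExtension.Ring⁄A] →ₗ[P.toExtension.Ring] P.toExtension.Cotangent :=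
    (Algebra.Extension.cotangentEquivCotangentKer (P := P.toExtension)).symm.toLinearMap ∘ₗ Φ
  refine ⟨φ ∘ₗ Φ'.liftBaseChange B, LinearMap.ext fun c => ?_⟩
  obtain ⟨x, rfl⟩ := Algebra.Extension.Cotangent.mk_surjective c
  show φ (Φ'.liftBaseChange B (P.toExtension.cotangentComplex (Algebra.Extension.Cotangent.mk x))) = _
  rw [Algebra.Extension.cotangentComplex_mk, LinearMap.liftBaseChange_tmul, one_smul]
  show φ ((Algebra.Extension.cotangentEquivCotangentKer (P := P.toExtension)).symm (Φ (KaehlerDifferential.D A P.toExtension.Ring x))) = _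
  rw [hΦ (x : P.toExtension.Ring) x.2, map_smul, ← IsScalarTower.algebraMap_smul B s, map_smul]
  rfl

theorem mem_retract_of_smul_eq_zero (s : P.toExtension.Ring)
    (h : algebraMap P.toExtension.Ring B s • homToT1 P P.toExtension.Cotangent LinearMap.id = 0) : s ∈ retract P := by
  rw [← map_smul, ← LinearMap.mem_ker, ker_homToT1] at h
  obtain ⟨ψ, hψ⟩ := h
  refine ⟨(Algebra.Extension.cotangentEquivCotangentKer (P := P.toExtension)).toLinearMap ∘ₗ
    ψ.restrictScalars P.toExtension.Ring ∘ₗ TensorProduct.mk P.toExtension.Ring B Ω[P.toExtension.Ring⁄A] 1, fun x hx => ?_⟩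
  show Algebra.Extension.cotangentEquivCotangentKer (P := P.toExtension)
    (ψ ((1 : B) ⊗ₜ KaehlerDifferential.D A P.toExtension.Ring x)) = _
  have h1 := LinearMap.congr_fun hψ (Algebra.Extension.Cotangent.mk ⟨x, hx⟩)
  rw [LinearMap.lcomp_apply, Algebra.Extension.cotangentComplex_mk, LinearMap.smul_apply, LinearMap.id_apply,
    IsScalarTower.algebraMap_smul] at h1
  rw [h1, map_smul]
  rfl

end Groth.Agent.CotTLib
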