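import Groth.Agent.CotTLib.Exal
import Groth.Agent.CotTLib.Smooth

/-! Sections of extensions and the vanishing of `T¹`. -/

set_option autoImplicit false

noncomputable section

open TensorProduct

namespace Groth.Agent.CotTLib

open CotT

universe u

variable {A B : Type u} [CommRing A] [CommRing B] [Algebra A B] {ι σ : Type u}
variable (P : Algebra.Presentation A B ι σ)

theorem exists_section_of_subsingleton {L : Type u} [AddCommGroup L] [Module B L] [Subsingleton (T1 P L)]
    (X : Exal.Ext A B L) : ∃ s : B →ₐ[A] X.E, ∀ b, X.proj (s b) = b := by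
  obtain ⟨θ, φ, h⟩ := exists_lifts (P := P) (X := X)
  have hφ : (0 : P.toExtension.Cotangent →ₗ[B] L) - φ ∈ LinearMap.ker (homToT1 P L) := Subsingleton.elim _ _
  rw [ker_homToT1] at hφ
  obtain ⟨ψ, hψ⟩ := hφ
  obtain ⟨θ', hθ'⟩ := lifts_add h (φ' := 0) hψ.symm
  have hwd : ∀ r r' : P.toExtension.Ring, algebraMap P.toExtension.Ring B r = algebraMap P.toExtension.Ring B r' →
      θ' r = θ' r' := fun r r' e => by
    have hk : r - r' ∈ P.toExtension.ker := by
      show algebraMap P.toExtension.Ring B (r - r') = 0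
      rw [map_sub, e, sub_self]
    have h1 := hθ'.2 ⟨r - r', hk⟩
    rw [LinearMap.zero_apply, map_zero, map_sub, sub_eq_zero] at h1
    exact h1
  have hs : ∀ b, algebraMap P.toExtension.Ring B (P.toExtension.σ b) = b := P.toExtension.algebraMap_σ
  refine ⟨{ toFun := fun b => θ' (P.toExtension.σ b)
            map_one' := by rw [hwd (P.toExtension.σ 1) 1 (by rw [hs, map_one]), map_one]
            map_zero' := by rw [hwd (P.toExtension.σ 0) 0 (by rw [hs, map_zero]), map_zero]
            map_add' := fun a b => by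
              rw [hwd (P.toExtension.σ (a + b)) (P.toExtension.σ a + P.toExtension.σ b) (by rw [map_add, hs, hs, hs]), map_add]
            map_mul' := fun a b => by
              rw [hwd (P.toExtension.σ (a * b)) (P.toExtension.σ a * P.toExtension.σ b) (by rw [map_mul, hs, hs, hs]), map_mul]
            commutes' := fun a => by
              rw [hwd (P.toExtension.σ (algebraMap A B a)) (algebraMap A P.toExtension.Ring a)
                (by rw [hs, ← IsScalarTower.algebraMap_apply]), AlgHom.commutes] }, fun b => ?_⟩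
  show X.proj (θ' (P.toExtension.σ b)) = b
  rw [hθ'.1, hs]

theorem formallySmooth_of_sections
    (h : ∀ X : Exal.Ext A B P.toExtension.Cotangent, ∃ s : B →ₐ[A] X.E, ∀ b, X.proj (s b) = b) :
    Algebra.FormallySmooth A B := by
  refine formallySmooth_of_subsingleton_T1 P (subsingleton_of_forall_eq 0 fun x => ?_)
  obtain ⟨φ, rfl⟩ := homToT1_surjective P _ x
  obtain ⟨θ, hθ⟩ := lifts_extOf φ
  obtain ⟨s, hs⟩ := h (extOf P φ)
  let θ' : P.toExtension.Ring →ₐ[A] (extOf P φ).E := s.comp (IsScalarTower.toAlgHom A P.toExtension.Ring B)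
  have hθ' : Lifts θ' (0 : P.toExtension.Cotangent →ₗ[B] P.toExtension.Cotangent) := ⟨fun r => hs _, fun x => by
    show s (algebraMap P.toExtension.Ring B x) = _
    rw [show algebraMap P.toExtension.Ring B x = 0 from x.2, map_zero, LinearMap.zero_apply, map_zero]⟩
  obtain ⟨ψ, hψ⟩ := lifts_sub hθ' hθ
  rw [sub_zero] at hψ
  rw [← LinearMap.mem_ker, ker_homToT1]
  exact ⟨ψ, hψ.symm⟩

end Groth.Agent.CotTLib
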