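import Groth.Agent.CotTLib.Sections
import Groth.Agent.CotTLib.Retract

/-! Rigid algebras have trivial deformations over `k[t]/t^m`; consequences for smoothings. -/

set_option autoImplicit false

noncomputable section

namespace Groth.Agent.CotTLib

open CotT Polynomial

universe u

theorem ext_mul_eq_zero {A B L : Type u} [CommRing A] [CommRing B] [Algebra A B] [AddCommGroup L] [Module B L]
    (X : Exal.Ext A B L) {x y : X.E} (hx : X.proj x = 0) (hy : X.proj y = 0) : x * y = 0 := by
  obtain ⟨a, rfl⟩ := (X.isExtension.exact x).mp hx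
  obtain ⟨b, rfl⟩ := (X.isExtension.exact y).mp hy
  exact incl_mul_incl a b

/-- Compatible sections modulo powers of `τ` when the special fibre is rigid. -/
theorem exists_sections {k B B₀ : Type u} [CommRing k] [CommRing B] [Algebra k B] [CommRing B₀] [Algebra k B₀]
    (τ : B) (hτ : ∀ b, τ * b = 0 → b = 0) (π : B →ₐ[k] B₀) (hπ : Function.Surjective π)
    (hker : ∀ y, π y = 0 ↔ τ ∣ y) (hrig : Subsingleton (T1 (canon k B₀) B₀)) :
    ∀ m : ℕ, ∃ s : B₀ →ₐ[k] B ⧸ Ideal.span {τ ^ (m + 1)},
      ∀ b₀ y, Ideal.Quotient.mk (Ideal.span {τ ^ (m + 1)}) y = s b₀ → π y = b₀ := by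
  intro m
  induction m with
  | zero =>
    choose σ hσ using hπ
    have hwd : ∀ y y', π y = π y' → Ideal.Quotient.mk (Ideal.span {τ ^ (0 + 1)}) y =
        Ideal.Quotient.mk (Ideal.span {τ ^ (0 + 1)}) y' := fun y y' e => by
      rw [Ideal.Quotient.eq, Ideal.mem_span_singleton, zero_add, pow_one, ← hker, map_sub, e, sub_self]
    refine ⟨{ toFun := fun b => Ideal.Quotient.mk _ (σ b)
              map_one' := (hwd _ 1 (by rw [hσ, map_one])).trans (map_one _)
              map_zero' := (hwd _ 0 (by rw [hσ, map_zero])).trans (map_zero _)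
              map_add' := fun a b => by rw [← map_add]; exact hwd _ _ (by rw [hσ, map_add, hσ, hσ])
              map_mul' := fun a b => by rw [← map_mul]; exact hwd _ _ (by rw [hσ, map_mul, hσ, hσ])
              commutes' := fun c => (hwd _ (algebraMap k B c) (by rw [hσ, AlgHom.commutes])).trans
                (IsScalarTower.algebraMap_apply k B _ c).symm }, fun b y h => ?_⟩
    have h' : Ideal.Quotient.mk (Ideal.span {τ ^ (0 + 1)}) y = Ideal.Quotient.mk _ (σ b) := h
    rw [Ideal.Quotient.eq, Ideal.mem_span_singleton, zero_add, pow_one, ← hker, map_sub, hσ, sub_eq_zero] at h'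
    exact h'
  | succ m ih =>
    obtain ⟨s, hs⟩ := ih
    have hle : Ideal.span {τ ^ (m + 2)} ≤ Ideal.span {τ ^ (m + 1)} :=
      Ideal.span_singleton_le_span_singleton.mpr (pow_dvd_pow τ (by omega))
    let red : B ⧸ Ideal.span {τ ^ (m + 2)} →ₐ[k] B ⧸ Ideal.span {τ ^ (m + 1)} := Ideal.Quotient.factorₐ k hle
    let E : Subalgebra k ((B ⧸ Ideal.span {τ ^ (m + 2)}) × B₀) :=
      AlgHom.equalizer (red.comp (AlgHom.fst k _ _)) (s.comp (AlgHom.snd k _ _))
    have hmem : ∀ z, z ∈ E ↔ red z.1 = s z.2 := fun z => Iff.rfl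
    choose σ hσ using hπ
    have hin : ∀ b : B₀, (Ideal.Quotient.mk (Ideal.span {τ ^ (m + 2)}) (τ ^ (m + 1) * σ b), (0 : B₀)) ∈ E := fun b => by
      rw [hmem, map_zero]
      exact Ideal.Quotient.eq_zero_iff_mem.mpr (Ideal.mem_span_singleton.mpr (dvd_mul_right _ _))
    have hwd : ∀ y y', π y = π y' → Ideal.Quotient.mk (Ideal.span {τ ^ (m + 2)}) (τ ^ (m + 1) * y) =
        Ideal.Quotient.mk (Ideal.span {τ ^ (m + 2)}) (τ ^ (m + 1) * y') := fun y y' e => by
      rw [Ideal.Quotient.eq, Ideal.mem_span_singleton, ← mul_sub, pow_succ τ (m + 1)]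
      exact mul_dvd_mul_left _ ((hker _).mp (by rw [map_sub, e, sub_self]))
    have hcancel : ∀ (j : ℕ) (y : B), τ ^ (m + 2) ∣ τ ^ j * y → j ≤ m + 1 → τ ∣ y := fun j y h hj => by
      obtain ⟨w, hw⟩ := h
      have hc : ∀ (i : ℕ) (z : B), τ ^ i * z = 0 → z = 0 := fun i => by
        induction i with
        | zero => intro z h; simpa using h
        | succ i ih => intro z h; rw [pow_succ, mul_assoc] at h; exact hτ z (ih _ h)
      obtain ⟨d, hd⟩ := Nat.exists_eq_add_of_le hj
      refine ⟨τ ^ d * w, sub_eq_zero.mp (hc j _ ?_)⟩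
      rw [mul_sub, hw, show m + 2 = j + d + 1 by omega, pow_succ, pow_add]
      ring
    let proj : E →ₐ[k] B₀ := (AlgHom.snd k _ _).comp E.val
    let incl : B₀ →+ E :=
      { toFun := fun b => ⟨_, hin b⟩
        map_zero' := Subtype.ext (Prod.ext ((hwd _ 0 (by rw [hσ, map_zero])).trans (by rw [mul_zero]; rfl)) rfl)
        map_add' := fun a b => Subtype.ext (Prod.ext
          ((hwd _ (σ a + σ b) (by rw [hσ, map_add, hσ, hσ])).trans (by rw [mul_add, map_add]; rfl)) (add_zero 0).symm) }
    have hext : Exal.IsExtension proj incl := by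
      refine ⟨fun b => ?_, fun a b h => ?_, fun x => ⟨fun hx => ?_, ?_⟩, fun x z => ?_⟩
      · obtain ⟨y, hy⟩ := Ideal.Quotient.mk_surjective (s b)
        exact ⟨⟨(Ideal.Quotient.mk _ y, b), (hmem _).mpr hy⟩, rfl⟩
      · have h1 : Ideal.Quotient.mk (Ideal.span {τ ^ (m + 2)}) (τ ^ (m + 1) * σ a) =
            Ideal.Quotient.mk _ (τ ^ (m + 1) * σ b) := congrArg (fun z : E => z.1.1) h
        rw [Ideal.Quotient.eq, Ideal.mem_span_singleton, ← mul_sub] at h1
        have h2 := (hker _).mpr (hcancel _ _ h1 le_rfl)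
        rwa [map_sub, hσ, hσ, sub_eq_zero] at h2
      · have hx2 : x.1.2 = 0 := hx
        obtain ⟨y, hy⟩ := Ideal.Quotient.mk_surjective x.1.1
        have h1 : red x.1.1 = 0 := by rw [(hmem _).mp x.2, hx2, map_zero]
        rw [← hy] at h1
        obtain ⟨w, rfl⟩ := Ideal.mem_span_singleton.mp (Ideal.Quotient.eq_zero_iff_mem.mp h1)
        exact ⟨π w, Subtype.ext (Prod.ext ((hwd _ w (hσ _)).trans hy) hx2.symm)⟩
      · rintro ⟨b, rfl⟩
        rfl
      · refine Subtype.ext (Prod.ext ?_ (mul_zero _))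
        obtain ⟨y, hy⟩ := Ideal.Quotient.mk_surjective x.1.1
        have h1 : π y = x.1.2 := hs _ y (by rw [← (hmem _).mp x.2, ← hy]; rfl)
        show x.1.1 * Ideal.Quotient.mk _ (τ ^ (m + 1) * σ z) = Ideal.Quotient.mk _ (τ ^ (m + 1) * σ (x.1.2 • z))
        rw [← hy, ← map_mul, mul_left_comm]
        exact hwd _ _ (by rw [map_mul, hσ, hσ, h1, smul_eq_mul])
    obtain ⟨sec, hsec⟩ := exists_section_of_subsingleton (canon k B₀)
      ({ E := E, proj := proj, incl := incl, isExtension := hext } : Exal.Ext k B₀ B₀)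
    refine ⟨((AlgHom.fst k _ _).comp E.val).comp sec, fun b y h => ?_⟩
    have h1 := (hmem _).mp (sec b).2
    rw [show (sec b).1.2 = b from hsec b] at h1
    refine hs b y ?_
    rw [← h1]
    exact congrArg red h

theorem exists_polynomial_mod {k A : Type u} [Field k] [CommRing A] [Algebra k A] (t : A)
    (hres : ∀ a : A, ∃ c : k, t ∣ a - algebraMap k A c) :
    ∀ (m : ℕ) (a : A), ∃ q : k[X], t ^ m ∣ a - aeval t q := by
  intro m
  induction m with
  | zero => exact fun a => ⟨0, by simp⟩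
  | succ m ih =>
    intro a
    obtain ⟨q, w, hw⟩ := ih a
    obtain ⟨c, v, hv⟩ := hres w
    refine ⟨q + C c * X ^ m, v, ?_⟩
    simp only [map_add, map_mul, aeval_C, map_pow, aeval_X]
    linear_combination hw + t ^ m * hv

theorem dvd_of_pow_dvd_aeval {k A : Type u} [Field k] [CommRing A] [Algebra k A] (t : A)
    (ht : ∀ a, t * a = 0 → a = 0) (hu : ¬ IsUnit t) (m : ℕ) (q : k[X]) (h : t ^ m ∣ aeval t q) : X ^ m ∣ q := by
  induction m generalizing q with
  | zero => simp
  | succ m ih =>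
    obtain ⟨w, hw⟩ := h
    obtain ⟨r, hr⟩ : X ∣ q := by
      rw [X_dvd_iff]
      by_contra hc
      apply hu
      have h2 : aeval t q = t * aeval t q.divX + algebraMap k A (q.coeff 0) := by
        conv_lhs => rw [← X_mul_divX_add q]
        rw [map_add, map_mul, aeval_X, aeval_C]
      have h3 : algebraMap k A (q.coeff 0) = t * (t ^ m * w - aeval t q.divX) := by
        linear_combination hw - h2
      exact isUnit_of_mul_isUnit_left (h3 ▸ (Ne.isUnit hc).map (algebraMap k A))
    subst hr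
    rw [pow_succ']
    refine mul_dvd_mul_left X (ih r ⟨w, sub_eq_zero.mp (ht _ ?_)⟩)
    rw [map_mul, aeval_X] at hw
    linear_combination hw

theorem pow_cancel {B : Type u} [CommRing B] {τ : B} (hτ : ∀ b, τ * b = 0 → b = 0) :
    ∀ (i : ℕ) (z : B), τ ^ i * z = 0 → z = 0 := by
  intro i
  induction i with
  | zero => intro z h; simpa using h
  | succ i ih => intro z h; rw [pow_succ, mul_assoc] at h; exact hτ z (ih _ h)

set_option maxHeartbeats 400000 in
/-- A family trivial modulo `t^(n+1)`, with `t^n` in the retraction ideal, has smooth special fibre. -/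
theorem formallySmooth_fibre {k A B B₀ : Type u} [Field k] [CommRing A] [CommRing B] [CommRing B₀]
    [Algebra k A] [Algebra A B] [Algebra k B] [IsScalarTower k A B] [Algebra k B₀]
    (t : A) (ht : ∀ a, t * a = 0 → a = 0) (hu : ¬ IsUnit t) (hres : ∀ a : A, ∃ c : k, t ∣ a - algebraMap k A c)
    (τ : B) (hτdef : algebraMap A B t = τ) (hτ : ∀ b, τ * b = 0 → b = 0) (π : B →ₐ[k] B₀) (hπ : Function.Surjective π)
    (hker : ∀ y, π y = 0 ↔ τ ∣ y) (n : ℕ)
    (s : B₀ →ₐ[k] B ⧸ Ideal.span {τ ^ (n + 1)})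
    (hs : ∀ b₀ y, Ideal.Quotient.mk (Ideal.span {τ ^ (n + 1)}) y = s b₀ → π y = b₀)
    {ι σ : Type u} (P : Algebra.Presentation A B ι σ)
    (hn : algebraMap A P.toExtension.Ring t ^ n ∈ retract P) :
    Algebra.FormallySmooth k B₀ := by
  classical
  refine formallySmooth_of_sections (canon k B₀) fun X => ?_
  let ev : B₀[X] →+* B ⧸ (Ideal.span {τ ^ (n + 1)}) := eval₂RingHom s.toRingHom (Ideal.Quotient.mk (Ideal.span {τ ^ (n + 1)}) τ)
  have hτM : (Ideal.Quotient.mk (Ideal.span {τ ^ (n + 1)}) τ) ^ (n + 1) = 0 := by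
    rw [← map_pow]; exact Ideal.Quotient.eq_zero_iff_mem.mpr (Ideal.mem_span_singleton_self _)
  let ρ : B ⧸ (Ideal.span {τ ^ (n + 1)}) →+* B₀ := Ideal.Quotient.lift (Ideal.span {τ ^ (n + 1)}) π.toRingHom fun y hy =>
    (hker y).mpr ((dvd_pow_self τ (Nat.succ_ne_zero n)).trans (Ideal.mem_span_singleton.mp hy))
  have hρ : ∀ r, ρ (ev r) = r.coeff 0 := by
    have : ρ.comp ev = Polynomial.constantCoeff := Polynomial.ringHom_ext (fun b => by
        obtain ⟨y, hy⟩ := Ideal.Quotient.mk_surjective (s b)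
        simp only [ev, RingHom.comp_apply, coe_eval₂RingHom, eval₂_C, Polynomial.constantCoeff_apply, coeff_C_zero]
        show ρ (s b) = b
        rw [← hy]
        exact hs b y hy) (by
        simp only [ev, RingHom.comp_apply, coe_eval₂RingHom, eval₂_X, Polynomial.constantCoeff_apply, coeff_X_zero]
        exact (hker τ).mpr dvd_rfl)
    exact fun r => RingHom.congr_fun this r
  have hevinj : ∀ j ≤ n + 1, ∀ q, ev q = 0 → Polynomial.X ^ j ∣ q := by
    intro j
    induction j with
    | zero => intro _ q _; simp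
    | succ j ih =>
      intro hj q hq
      obtain ⟨r, rfl⟩ := ih (by omega) q hq
      obtain ⟨y, hy⟩ := Ideal.Quotient.mk_surjective (ev r)
      rw [map_mul, show ev (Polynomial.X ^ j) = Ideal.Quotient.mk (Ideal.span {τ ^ (n + 1)}) (τ ^ j) by simp [ev], ← hy, ← map_mul,
        Ideal.Quotient.eq_zero_iff_mem, Ideal.mem_span_singleton] at hq
      obtain ⟨w, hw⟩ := hq
      obtain ⟨d, hd⟩ := Nat.exists_eq_add_of_le hj
      have hy' : y = τ * (τ ^ d * w) := sub_eq_zero.mp (pow_cancel hτ j _ (by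
        rw [mul_sub, hw, hd, pow_add, pow_succ]; ring))
      rw [pow_succ]
      refine mul_dvd_mul_left _ (X_dvd_iff.mpr ?_)
      rw [← hρ r, ← hy]
      exact (hker y).mpr ⟨_, hy'⟩
  have hevsurj : ∀ z, ∃ q, ev q = z := by
    have key : ∀ j ≤ n + 1, ∀ y : B, ∃ q, ∃ y' : B, Ideal.Quotient.mk (Ideal.span {τ ^ (n + 1)}) y = ev q + Ideal.Quotient.mk (Ideal.span {τ ^ (n + 1)}) (τ ^ j * y') := by
      intro j
      induction j with
      | zero => intro _ y; exact ⟨0, y, by simp⟩
      | succ j ih =>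
        intro hj y
        obtain ⟨q, y', hy⟩ := ih (by omega) y
        obtain ⟨z, hz⟩ := Ideal.Quotient.mk_surjective (s (π y'))
        obtain ⟨v, hv⟩ : τ ∣ y' - z := (hker _).mp (by rw [map_sub, hs _ z hz, sub_self])
        refine ⟨q + C (π y') * Polynomial.X ^ j, v, ?_⟩
        rw [hy, map_add ev, map_mul ev, map_pow ev, show ev (C (π y')) = Ideal.Quotient.mk (Ideal.span {τ ^ (n + 1)}) z by rw [hz]; simp [ev],
          show ev Polynomial.X = Ideal.Quotient.mk (Ideal.span {τ ^ (n + 1)}) τ by simp [ev], ← map_pow, ← map_mul, add_assoc, ← map_add]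
        congr 2
        linear_combination τ ^ j * hv
    intro z
    obtain ⟨y, rfl⟩ := Ideal.Quotient.mk_surjective z
    obtain ⟨q, y', hy⟩ := key (n + 1) le_rfl y
    refine ⟨q, ?_⟩
    rw [hy, map_mul, map_pow, hτM, zero_mul, add_zero]
  -- the extension over `k[t]/t^(n+1)`
  let N : Ideal (X.E)[X] := Ideal.span {Polynomial.X ^ (n + 1)}
  let proj' : (X.E)[X] ⧸ N →+* B ⧸ (Ideal.span {τ ^ (n + 1)}) := Ideal.Quotient.lift N (ev.comp (mapRingHom X.proj.toRingHom)) fun p hp => by
    obtain ⟨w, rfl⟩ := Ideal.mem_span_singleton.mp hp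
    rw [map_mul, RingHom.comp_apply, coe_mapRingHom, Polynomial.map_pow, Polynomial.map_X, map_pow,
      show ev Polynomial.X = Ideal.Quotient.mk (Ideal.span {τ ^ (n + 1)}) τ by simp [ev], hτM, zero_mul]
  have hproj'_mk : ∀ p, proj' (Ideal.Quotient.mk N p) = ev (p.map X.proj.toRingHom) := fun p => rfl
  have hkerc : ∀ p, proj' (Ideal.Quotient.mk N p) = 0 → ∀ j < n + 1, X.proj (p.coeff j) = 0 := fun p hp j hj => by
    rw [hproj'_mk] at hp
    have := (X_pow_dvd_iff.mp (hevinj _ le_rfl _ hp)) j hj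
    rwa [coeff_map] at this
  have hsq : ∀ z w, proj' z = 0 → proj' w = 0 → z * w = 0 := fun z w hz hw => by
    obtain ⟨p, rfl⟩ := Ideal.Quotient.mk_surjective z
    obtain ⟨q, rfl⟩ := Ideal.Quotient.mk_surjective w
    rw [← map_mul, Ideal.Quotient.eq_zero_iff_mem, Ideal.mem_span_singleton, X_pow_dvd_iff]
    intro j hj
    rw [coeff_mul]
    refine Finset.sum_eq_zero fun ab hab => ?_
    rw [Finset.HasAntidiagonal.mem_antidiagonal] at hab
    exact ext_mul_eq_zero X (hkerc p hz _ (by omega)) (hkerc q hw _ (by omega))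
  choose rep hrep using fun z : (X.E)[X] ⧸ N => Ideal.Quotient.mk_surjective z
  let c : ℕ → (X.E)[X] ⧸ N → X.E := fun j z => (rep z).coeff j
  have hc : ∀ j < n + 1, ∀ p, c j (Ideal.Quotient.mk N p) = p.coeff j := fun j hj p => by
    have h := Ideal.Quotient.eq.mp (hrep (Ideal.Quotient.mk N p))
    rw [Ideal.mem_span_singleton, X_pow_dvd_iff] at h
    have := h j hj
    rwa [coeff_sub, sub_eq_zero] at this
  have hcadd : ∀ j < n + 1, ∀ z w, c j (z + w) = c j z + c j w := fun j hj z w => by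
    obtain ⟨p, rfl⟩ := Ideal.Quotient.mk_surjective z
    obtain ⟨q, rfl⟩ := Ideal.Quotient.mk_surjective w
    rw [← map_add, hc j hj, hc j hj, hc j hj, coeff_add]
  let cst : X.E →+* (X.E)[X] ⧸ N := (Ideal.Quotient.mk N).comp Polynomial.C
  have hccst : ∀ j < n + 1, ∀ v z, c j (cst v * z) = v * c j z := fun j hj v z => by
    obtain ⟨p, rfl⟩ := Ideal.Quotient.mk_surjective z
    rw [RingHom.comp_apply, ← map_mul, hc j hj, hc j hj, coeff_C_mul]
  have hprojc : ∀ j < n + 1, ∀ z, proj' z = 0 → X.proj (c j z) = 0 := fun j hj z hz => by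
    obtain ⟨p, rfl⟩ := Ideal.Quotient.mk_surjective z
    rw [hc j hj]; exact hkerc p hz j hj
  -- the base map
  choose q hq using exists_polynomial_mod t hres (n + 1)
  let ιk : k[X] →+* (X.E)[X] ⧸ N := (Ideal.Quotient.mk N).comp (mapRingHom (algebraMap k X.E))
  have hα : ∀ a r, t ^ (n + 1) ∣ a - aeval t r → ιk (q a) = ιk r := fun a r hr => by
    rw [← sub_eq_zero, ← map_sub]
    obtain ⟨w, hw⟩ := dvd_of_pow_dvd_aeval t ht hu (n + 1) (q a - r) (by
      have := dvd_sub hr (hq a)
      rw [map_sub]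
      convert this using 1
      ring)
    rw [hw, map_mul, RingHom.comp_apply, coe_mapRingHom, Polynomial.map_pow, Polynomial.map_X, map_pow,
      ← map_pow, show Ideal.Quotient.mk N (Polynomial.X ^ (n + 1)) = 0 from
        Ideal.Quotient.eq_zero_iff_mem.mpr (Ideal.mem_span_singleton_self _), zero_mul]
  let α : A →+* (X.E)[X] ⧸ N :=
    { toFun := fun a => ιk (q a)
      map_one' := (hα 1 1 (by simp)).trans (map_one _)
      map_zero' := (hα 0 0 (by simp)).trans (map_zero _)
      map_add' := fun a b => (hα (a + b) (q a + q b) (by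
        have := dvd_add (hq a) (hq b)
        rw [map_add]; convert this using 1; ring)).trans (map_add _ _ _)
      map_mul' := fun a b => (hα (a * b) (q a * q b) (by
        have := dvd_add ((hq a).mul_right b) ((hq b).mul_left (aeval t (q a)))
        rw [map_mul]; convert this using 1; ring)).trans (map_mul _ _ _) }
  have hαproj : ∀ a, proj' (α a) = Ideal.Quotient.mk (Ideal.span {τ ^ (n + 1)}) (algebraMap A B a) := fun a => by
    show ev (((q a).map (algebraMap k X.E)).map X.proj.toRingHom) = _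
    rw [Polynomial.map_map, show X.proj.toRingHom.comp (algebraMap k X.E) = algebraMap k B₀ from
      RingHom.ext fun x => X.proj.commutes x]
    have h1 : ev ((q a).map (algebraMap k B₀)) = aeval (Ideal.Quotient.mk (Ideal.span {τ ^ (n + 1)}) τ) (q a) := by
      simp only [ev, coe_eval₂RingHom, eval₂_map, aeval_def]
      congr 1
      exact RingHom.ext fun x => s.commutes x
    let f : A →ₐ[k] B ⧸ (Ideal.span {τ ^ (n + 1)}) := (Ideal.Quotient.mkₐ k (Ideal.span {τ ^ (n + 1)})).comp (IsScalarTower.toAlgHom k A B)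
    rw [h1, show Ideal.Quotient.mk (Ideal.span {τ ^ (n + 1)}) τ = f t from (congrArg (Ideal.Quotient.mk (Ideal.span {τ ^ (n + 1)})) hτdef.symm), Polynomial.aeval_algHom_apply]
    obtain ⟨w, hw⟩ := hq a
    show Ideal.Quotient.mk (Ideal.span {τ ^ (n + 1)}) (algebraMap A B (aeval t (q a))) = _
    rw [Ideal.Quotient.eq, ← map_sub, show aeval t (q a) - a = t ^ (n + 1) * (-w) by linear_combination -hw,
      map_mul, map_pow, hτdef]
    exact Ideal.mul_mem_right _ _ (Ideal.mem_span_singleton_self _)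
  have hproj'_surj : ∀ z, ∃ w, proj' w = z := fun z => by
    obtain ⟨p, rfl⟩ := hevsurj z
    obtain ⟨p', rfl⟩ := Polynomial.map_surjective X.proj.toRingHom X.isExtension.proj_surjective p
    exact ⟨Ideal.Quotient.mk N p', rfl⟩
  choose g hg using fun i : ι => hproj'_surj (Ideal.Quotient.mk (Ideal.span {τ ^ (n + 1)}) (P.val i))
  let θ : P.toExtension.Ring →+* (X.E)[X] ⧸ N := MvPolynomial.eval₂Hom α g
  have hθ : ∀ r, proj' (θ r) = Ideal.Quotient.mk (Ideal.span {τ ^ (n + 1)}) (algebraMap P.toExtension.Ring B r) := fun r => by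
    rw [algebraMap_toExtension]
    refine RingHom.congr_fun (f := proj'.comp (MvPolynomial.eval₂Hom α g))
      (g := (Ideal.Quotient.mk (Ideal.span {τ ^ (n + 1)})).comp (MvPolynomial.aeval P.val).toRingHom) ?_ r
    refine MvPolynomial.ringHom_ext (fun a => ?_) (fun i => ?_)
    · simp only [RingHom.comp_apply, MvPolynomial.eval₂Hom_C]
      rw [hαproj]
      exact congrArg _ (MvPolynomial.aeval_C _ _).symm
    · simp only [RingHom.comp_apply, MvPolynomial.eval₂Hom_X']
      rw [hg]
      exact congrArg _ (MvPolynomial.aeval_X _ _).symm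
  have hθC : ∀ a, θ (algebraMap A P.toExtension.Ring a) = α a := fun a => MvPolynomial.eval₂Hom_C _ _ a
  have hT : α t = Ideal.Quotient.mk N Polynomial.X := by
    show ιk (q t) = _
    rw [hα t Polynomial.X (by simp), RingHom.comp_apply, coe_mapRingHom, Polynomial.map_X]
  have hTpow : (Ideal.Quotient.mk N Polynomial.X) ^ (n + 1) = 0 := by
    rw [← map_pow]; exact Ideal.Quotient.eq_zero_iff_mem.mpr (Ideal.mem_span_singleton_self _)
  obtain ⟨Φ, hΦ⟩ := hn
  let J := RingHom.ker (algebraMap P.toExtension.Ring B)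
  have hJ0 : ∀ x ∈ J, proj' (θ x) = 0 := fun x hx => by rw [hθ, RingHom.mem_ker.mp hx, map_zero]
  choose lift hlift using fun w : J.Cotangent => J.toCotangent_surjective w
  have hwd : ∀ x y : J, J.toCotangent x = J.toCotangent y → θ x = θ y := fun x y e => by
    rw [← sub_eq_zero, ← map_sub]
    have h2 : (x : P.toExtension.Ring) - y ∈ J * J := by rw [← sq]; exact (Ideal.toCotangent_eq J).mp e
    refine Submodule.mul_induction_on h2 (fun a ha b hb => ?_) (fun a b ha hb => by rw [map_add, ha, hb, add_zero])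
    rw [map_mul]
    exact hsq _ _ (hJ0 a ha) (hJ0 b hb)
  let G : J.Cotangent → (X.E)[X] ⧸ N := fun w => θ (lift w)
  have hGadd : ∀ v w, G (v + w) = G v + G w := fun v w => by
    show θ _ = θ _ + θ _
    rw [← map_add]
    exact hwd _ (lift v + lift w) (by rw [map_add, hlift, hlift, hlift])
  have hGsmul : ∀ (r : P.toExtension.Ring) w, G (r • w) = θ r * G w := fun r w => by
    show θ _ = θ r * θ _
    rw [← map_mul]
    exact hwd _ (r • lift w) (by rw [map_smul, hlift, hlift])
  let D : P.toExtension.Ring → (X.E)[X] ⧸ N := fun r => G (Φ (KaehlerDifferential.D A P.toExtension.Ring r))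
  have hDadd : ∀ a b, D (a + b) = D a + D b := fun a b => by simp only [D, map_add, hGadd]
  have hDmul : ∀ a b, D (a * b) = θ a * D b + θ b * D a := fun a b => by
    simp only [D, Derivation.leibniz, map_add, map_smul, hGadd, hGsmul]
  have hDC : ∀ a, D (algebraMap A P.toExtension.Ring a) = 0 := fun a => by
    have h0 : D (algebraMap A P.toExtension.Ring a) = G 0 := by simp only [D, Derivation.map_algebraMap, map_zero]
    rw [h0]
    show θ (lift 0) = 0
    rw [hwd (lift 0) 0 (by rw [hlift, map_zero])]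
    exact map_zero θ
  have hD0 : ∀ r, proj' (D r) = 0 := fun r => hJ0 _ (lift _).2
  have hDJ : ∀ x ∈ J, D x = Ideal.Quotient.mk N Polynomial.X ^ n * θ x := fun x hx => by
    show G (Φ _) = _
    rw [hΦ x hx, hGsmul, map_pow, hθC, hT]
    congr 1
    exact hwd _ ⟨x, hx⟩ (hlift _)
  -- comparison with a presentation of `B₀`
  choose e₀ he₀ using fun b : B₀ => X.isExtension.proj_surjective b
  let θ₀ : MvPolynomial B₀ k →ₐ[k] X.E := MvPolynomial.aeval e₀
  let π₀ : MvPolynomial B₀ k →ₐ[k] B₀ := MvPolynomial.aeval _root_.id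
  have hθ₀ : ∀ r, X.proj (θ₀ r) = π₀ r := fun r => by
    have : X.proj.comp θ₀ = π₀ := MvPolynomial.algHom_ext fun b => by simp [θ₀, π₀, he₀]
    exact AlgHom.congr_fun this r
  choose y hy using fun b : B₀ => Ideal.Quotient.mk_surjective (s b)
  choose yR hyR using fun b : B₀ => P.toExtension.algebraMap_surjective (y b)
  let lam : MvPolynomial B₀ k →+* P.toExtension.Ring :=
    MvPolynomial.eval₂Hom ((algebraMap A P.toExtension.Ring).comp (algebraMap k A)) yR
  have hlam : ∀ r, Ideal.Quotient.mk (Ideal.span {τ ^ (n + 1)}) (algebraMap P.toExtension.Ring B (lam r)) = s (π₀ r) := fun r => by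
    refine RingHom.congr_fun (f := ((Ideal.Quotient.mk (Ideal.span {τ ^ (n + 1)})).comp (algebraMap P.toExtension.Ring B)).comp lam)
      (g := s.toRingHom.comp π₀.toRingHom) ?_ r
    refine MvPolynomial.ringHom_ext (fun a => ?_) (fun b => ?_)
    · simp only [lam, RingHom.comp_apply, MvPolynomial.eval₂Hom_C]
      rw [← IsScalarTower.algebraMap_apply A P.toExtension.Ring B, ← IsScalarTower.algebraMap_apply k A B]
      show _ = s (π₀ (MvPolynomial.C a))
      rw [show π₀ (MvPolynomial.C a) = algebraMap k B₀ a from MvPolynomial.aeval_C _ _, AlgHom.commutes]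
      rfl
    · simp only [lam, RingHom.comp_apply, MvPolynomial.eval₂Hom_X', hyR, hy]
      show _ = s (π₀ (MvPolynomial.X b))
      rw [show π₀ (MvPolynomial.X b) = b from MvPolynomial.aeval_X _ _]
  have hcst : ∀ v, proj' (cst v) = s (X.proj v) := fun v => by
    show ev ((Polynomial.C v).map X.proj.toRingHom) = _
    rw [Polynomial.map_C]
    simp [ev]
  let e' : MvPolynomial B₀ k → (X.E)[X] ⧸ N := fun r => θ (lam r) - cst (θ₀ r)
  have he' : ∀ r, proj' (e' r) = 0 := fun r => by
    rw [map_sub, hθ, hlam, hcst, hθ₀, sub_self]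
  let δ : MvPolynomial B₀ k → X.E := fun r => c n (D (lam r)) - c 0 (e' r)
  have hn1 : n < n + 1 := Nat.lt_succ_self n
  have hc0 : ∀ j < n + 1, c j 0 = 0 := fun j hj => by rw [← map_zero (Ideal.Quotient.mk N), hc j hj, coeff_zero]
  have hδadd : ∀ a b, δ (a + b) = δ a + δ b := fun a b => by
    simp only [δ, map_add, hDadd, hcadd n hn1]
    rw [show e' (a + b) = e' a + e' b by simp only [e', map_add]; ring, hcadd 0 (Nat.succ_pos n)]
    ring
  have hδ0 : ∀ r, X.proj (δ r) = 0 := fun r => by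
    simp only [δ, map_sub, hprojc n hn1 _ (hD0 _), hprojc 0 (Nat.succ_pos n) _ (he' _), sub_self]
  have hδmul : ∀ a b, δ (a * b) = θ₀ a * δ b + θ₀ b * δ a := fun a b => by
    have hD' : D (lam (a * b)) = cst (θ₀ a) * D (lam b) + cst (θ₀ b) * D (lam a) := by
      rw [map_mul, hDmul]
      linear_combination hsq (e' a) (D (lam b)) (he' a) (hD0 _) + hsq (e' b) (D (lam a)) (he' b) (hD0 _)
    have he'' : e' (a * b) = cst (θ₀ a) * e' b + cst (θ₀ b) * e' a := by
      simp only [e', map_mul]
      linear_combination hsq (e' a) (e' b) (he' a) (he' b)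
    simp only [δ, hD', he'', hcadd n hn1, hcadd 0 (Nat.succ_pos n), hccst n hn1, hccst 0 (Nat.succ_pos n)]
    ring
  have hδC : ∀ x : k, δ (MvPolynomial.C x) = 0 := fun x => by
    have h1 : lam (MvPolynomial.C x) = algebraMap A P.toExtension.Ring (algebraMap k A x) := MvPolynomial.eval₂Hom_C _ _ _
    have h2 : e' (MvPolynomial.C x) = 0 := by
      simp only [e', h1, hθC]
      rw [show θ₀ (MvPolynomial.C x) = algebraMap k X.E x from MvPolynomial.aeval_C _ _, sub_eq_zero]
      show ιk (q (algebraMap k A x)) = _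
      rw [hα _ (Polynomial.C x) (by simp)]
      show Ideal.Quotient.mk N ((Polynomial.C x).map (algebraMap k X.E)) = _
      rw [Polynomial.map_C]
      rfl
    simp only [δ, h1, h2, hDC, hc0 n hn1, hc0 0 (Nat.succ_pos n), sub_self]
  let ω : MvPolynomial B₀ k → X.E := fun r => θ₀ r - δ r
  have hω0 : ∀ x, π₀ x = 0 → ω x = 0 := fun x hx => by
    obtain ⟨z, hz⟩ := Ideal.mem_span_singleton.mp (Ideal.Quotient.eq_zero_iff_mem.mp
      (show Ideal.Quotient.mk (Ideal.span {τ ^ (n + 1)}) (algebraMap P.toExtension.Ring B (lam x)) = 0 by rw [hlam, hx, map_zero]))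
    obtain ⟨zR, rfl⟩ := P.toExtension.algebraMap_surjective z
    set tp := algebraMap A P.toExtension.Ring t ^ (n + 1) with htp
    have hyJ : lam x - tp * zR ∈ J := by
      rw [RingHom.mem_ker, map_sub, map_mul, map_pow, ← IsScalarTower.algebraMap_apply, hτdef, hz, sub_self]
    have hθt : θ tp = 0 := by rw [map_pow, hθC, hT, hTpow]
    have hDt : D tp = 0 := by rw [htp, ← map_pow]; exact hDC _
    have h1 : D (lam x) = Ideal.Quotient.mk N Polynomial.X ^ n * θ (lam x) := by
      have h2 := hDJ _ hyJ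
      rw [map_sub, map_mul, hθt, zero_mul, sub_zero] at h2
      have h3 := hDadd (lam x - tp * zR) (tp * zR)
      rw [sub_add_cancel] at h3
      rw [h3, h2, hDmul, hθt, hDt, zero_mul, mul_zero, add_zero, add_zero]
    have hcX : ∀ v, c n (Ideal.Quotient.mk N Polynomial.X ^ n * v) = c 0 v := fun v => by
      obtain ⟨p, rfl⟩ := Ideal.Quotient.mk_surjective v
      rw [← map_pow, ← map_mul, hc n hn1, hc 0 (Nat.succ_pos n), coeff_X_pow_mul']
      simp
    have h4 : c 0 (θ (lam x)) = c 0 (e' x) + θ₀ x := by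
      have := hcadd 0 (Nat.succ_pos n) (e' x) (cst (θ₀ x))
      rw [show e' x + cst (θ₀ x) = θ (lam x) from sub_add_cancel _ _] at this
      rw [this]
      congr 1
      show c 0 (Ideal.Quotient.mk N (Polynomial.C (θ₀ x))) = _
      rw [hc 0 (Nat.succ_pos n), coeff_C_zero]
    simp only [ω, δ, h1, hcX, h4]
    ring
  have hωadd : ∀ a b, ω (a + b) = ω a + ω b := fun a b => by simp only [ω, map_add, hδadd]; ring
  have hωmul : ∀ a b, ω (a * b) = ω a * ω b := fun a b => by
    simp only [ω, map_mul, hδmul]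
    linear_combination -(ext_mul_eq_zero X (hδ0 a) (hδ0 b))
  have hωC : ∀ x : k, ω (MvPolynomial.C x) = algebraMap k X.E x := fun x => by
    simp only [ω, hδC, sub_zero]
    exact MvPolynomial.aeval_C _ _
  have hwdω : ∀ a b, π₀ a = π₀ b → ω a = ω b := fun a b e => by
    have h := hωadd (a - b) b
    rw [sub_add_cancel, hω0 (a - b) (by rw [map_sub, e, sub_self]), zero_add] at h
    exact h
  have hX : ∀ b : B₀, π₀ (MvPolynomial.X b) = b := fun b => MvPolynomial.aeval_X _ b
  refine ⟨{ toFun := fun b => ω (MvPolynomial.X b)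
            map_one' := by
              rw [hwdω _ (MvPolynomial.C 1) (by rw [hX, MvPolynomial.C_1, map_one]), hωC, map_one]
            map_zero' := by
              rw [hwdω _ (MvPolynomial.C 0) (by rw [hX, MvPolynomial.C_0, map_zero]), hωC, map_zero]
            map_add' := fun a b => by rw [← hωadd]; exact hwdω _ _ (by rw [map_add, hX, hX, hX])
            map_mul' := fun a b => by rw [← hωmul]; exact hwdω _ _ (by rw [map_mul, hX, hX, hX])
            commutes' := fun x => by
              rw [hwdω _ (MvPolynomial.C x) (by rw [hX]; exact (MvPolynomial.aeval_C _ _).symm), hωC] }, fun b => ?_⟩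
  show X.proj (ω (MvPolynomial.X b)) = b
  simp only [ω, map_sub, hδ0, sub_zero, hθ₀, hX]

end Groth.Agent.CotTLib
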